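import Groth.Agent.H60.Haar
import Groth.Agent.Lib.Comod.Invariants
import Groth.Prelude.Def_GLin
import Mathlib.LinearAlgebra.Charpoly.ToMatrix
import Mathlib.LinearAlgebra.TensorProduct.Basis
import Mathlib.RingTheory.TensorProduct.Free
import Mathlib.RingTheory.Artinian.Module
import Mathlib.RingTheory.Ideal.IdempotentFG
import Mathlib.RingTheory.IntegralClosure.IsIntegralClosure.Basic
import Mathlib.RingTheory.HopfAlgebra.Convolution

/-!
Finite group schemes: integrality over the invariants and the fibre of the quotient through a fixed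
point.
-/

set_option autoImplicit false
set_option linter.unusedSectionVars false
universe u v

open TensorProduct
open Groth.Agent.Lib.Comod.Basic

namespace Groth.Agent.H66.CST

noncomputable section

variable {k : Type u} [Field k] {A : Type u} [CommRing A] [HopfAlgebra k A]
variable {R : Type u} [CommRing R] [Algebra k R] [HopfRep.Comod k A R] [GLin.IsCoactAlg k A R]

section Integral

variable (k A R) in
/-- `h ↦ Σ (1 ⊗ h₁) ⊗ h₂` and its `T`-linear extension. -/
def shear : (R ⊗[k] A) ⊗[k] A →ₐ[R ⊗[k] A] (R ⊗[k] A) ⊗[k] A :=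
  Algebra.TensorProduct.lift (Algebra.ofId (R ⊗[k] A) ((R ⊗[k] A) ⊗[k] A))
    ((Algebra.TensorProduct.map (Algebra.TensorProduct.includeRight : A →ₐ[k] R ⊗[k] A) (AlgHom.id k A)).comp
      (Bialgebra.comulAlgHom k A)) fun _ _ => Commute.all _ _

theorem shear_tmul (t : R ⊗[k] A) (h : A) : shear k A R (t ⊗ₜ[k] h) =
    (t ⊗ₜ[k] (1 : A)) * Algebra.TensorProduct.map (Algebra.TensorProduct.includeRight : A →ₐ[k] R ⊗[k] A)
      (AlgHom.id k A) (CoalgebraStruct.comul (R := k) h) := by
  simp [shear]

theorem shear_surjective : Function.Surjective (shear k A R) := by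
  let W := (R ⊗[k] A) ⊗[k] A
  let j1 : WithConv (A →ₐ[k] W) := WithConv.toConv
    ((Algebra.TensorProduct.includeLeft (R := k) (S := k) (A := R ⊗[k] A) (B := A)).comp
      (Algebra.TensorProduct.includeRight : A →ₐ[k] R ⊗[k] A))
  let j2 : WithConv (A →ₐ[k] W) := WithConv.toConv
    (Algebra.TensorProduct.includeRight : A →ₐ[k] W)
  let Φ : W →ₐ[k] W := (shear k A R).restrictScalars k
  have happ : ∀ (f g : WithConv (A →ₐ[k] W)) (h : A), (f * g).ofConv h =
      Algebra.TensorProduct.lmul' k (Algebra.TensorProduct.map f.ofConv g.ofConv (Bialgebra.comulAlgHom k A h)) :=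
    fun f g h => rfl
  have hj2 : WithConv.toConv (Φ.comp j2.ofConv) = j1 * j2 := by
    apply WithConv.ofConv_injective
    refine AlgHom.ext fun h => ?_
    rw [happ]
    change shear k A R ((1 : R ⊗[k] A) ⊗ₜ[k] h) = _
    rw [shear_tmul, Bialgebra.comulAlgHom_apply, ← Algebra.TensorProduct.one_def, one_mul]
    induction CoalgebraStruct.comul (R := k) h using TensorProduct.induction_on with
    | zero => simp
    | add y z hy hz => simp only [map_add, hy, hz]
    | tmul a b => simp [j1, j2, W, Algebra.TensorProduct.tmul_mul_tmul]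
  let j1' : WithConv (A →ₐ[k] W) := WithConv.toConv (j1.ofConv.comp (HopfAlgebra.antipodeAlgHom k A))
  have hinv : j1' * j1 = 1 := by
    apply WithConv.ofConv_injective
    refine AlgHom.ext fun h => ?_
    rw [happ, Bialgebra.comulAlgHom_apply]
    have e : ∀ y : A ⊗[k] A, Algebra.TensorProduct.lmul' k (Algebra.TensorProduct.map j1'.ofConv j1.ofConv y) =
        j1.ofConv (LinearMap.mul' k A ((HopfAlgebraStruct.antipode (R := k) (A := A)).rTensor A y)) := by
      intro y
      induction y using TensorProduct.induction_on with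
      | zero => simp
      | add y z hy hz => simp only [map_add, hy, hz]
      | tmul a b => simp [j1']
    rw [e, HopfAlgebra.mul_antipode_rTensor_comul_apply, AlgHom.commutes]
    rfl
  have hj1 : WithConv.toConv (Φ.comp j1'.ofConv) = j1' := by
    apply WithConv.ofConv_injective
    refine AlgHom.ext fun h => ?_
    change shear k A R ((j1.ofConv.comp (HopfAlgebra.antipodeAlgHom k A)) h) =
      (j1.ofConv.comp (HopfAlgebra.antipodeAlgHom k A)) h
    simp [j1, shear_tmul, ← Algebra.TensorProduct.one_def]
  have hcomp : ∀ f g : WithConv (A →ₐ[k] W),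
      WithConv.toConv (Φ.comp (f * g).ofConv) = WithConv.toConv (Φ.comp f.ofConv) * WithConv.toConv (Φ.comp g.ofConv) := by
    intro f g
    apply WithConv.ofConv_injective
    refine AlgHom.ext fun h => ?_
    rw [happ]
    change Φ ((f * g).ofConv h) = _
    rw [happ]
    induction Bialgebra.comulAlgHom k A h using TensorProduct.induction_on with
    | zero => simp
    | add y z hy hz => simp only [map_add, hy, hz]
    | tmul a b => simp
  have key : WithConv.toConv (Φ.comp (j1' * j2).ofConv) = j2 := by
    rw [hcomp, hj1, hj2]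
    exact (mul_assoc j1' j1 j2).symm.trans ((congrArg (· * j2) hinv).trans (one_mul j2))
  intro y
  induction y using TensorProduct.induction_on with
  | zero => exact ⟨0, map_zero _⟩
  | add y z hy hz =>
    obtain ⟨a, ha⟩ := hy
    obtain ⟨b, hb⟩ := hz
    exact ⟨a + b, by rw [map_add, ha, hb]⟩
  | tmul t h =>
    refine ⟨t • (j1' * j2).ofConv h, ?_⟩
    rw [map_smul]
    have h1 : Φ ((j1' * j2).ofConv h) = (1 : R ⊗[k] A) ⊗ₜ[k] h := AlgHom.congr_fun (congrArg WithConv.ofConv key) h
    change t • Φ ((j1' * j2).ofConv h) = _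
    rw [h1, TensorProduct.smul_tmul', smul_eq_mul, mul_one]

theorem isIntegral_invariants [Module.Finite k A] : Algebra.IsIntegral (GLin.invariants k A R) R := by
  classical
  refine ⟨fun f => ?_⟩
  nontriviality R
  let T := R ⊗[k] A
  let W := T ⊗[k] A
  let bA := Module.finBasis k A
  let bR := Algebra.TensorProduct.basis R bA
  let bT := Algebra.TensorProduct.basis T bA
  haveI : Module.Finite T W := Module.Finite.of_basis bT
  let c := HopfRep.Comod.coact (k := k) (A := A) f
  let Mt := LinearMap.toMatrix bR bR (LinearMap.mulLeft R c)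
  let P := Mt.charpoly
  have hmat : ∀ (θ : R →ₐ[k] T),
      (LinearMap.toMatrix bT bT (LinearMap.mulLeft T (Algebra.TensorProduct.map θ (AlgHom.id k A) c))) =
        Mt.map θ := by
    intro θ
    ext i j
    rw [LinearMap.toMatrix_apply, Matrix.map_apply]
    change bT.repr _ i = θ (LinearMap.toMatrix bR bR (LinearMap.mulLeft R c) i j)
    rw [LinearMap.toMatrix_apply, LinearMap.mulLeft_apply, LinearMap.mulLeft_apply, Algebra.TensorProduct.basis_apply, Algebra.TensorProduct.basis_apply,
      show ((1 : T) ⊗ₜ[k] bA j : W) = Algebra.TensorProduct.map θ (AlgHom.id k A) ((1 : R) ⊗ₜ[k] bA j) by simp,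
      ← map_mul]
    induction c * ((1 : R) ⊗ₜ[k] bA j) using TensorProduct.induction_on with
    | zero => simp
    | add y z hy hz => simp only [map_add, Finsupp.add_apply, hy, hz]
    | tmul r a => simp [bT, bR, Algebra.TensorProduct.basis_repr_tmul]
  let ρ : R →ₐ[k] T := GLin.coactAlgHom k A R
  let ι₀ : R →ₐ[k] T := Algebra.TensorProduct.includeLeft
  let F := Algebra.TensorProduct.map ρ (AlgHom.id k A) c
  let F' := Algebra.TensorProduct.map ι₀ (AlgHom.id k A) c
  have hΦ : shear k A R F' = F := by
    have h := LinearMap.congr_fun (HopfRep.Comod.coassoc (k := k) (A := A) (V := R)) f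
    simp only [LinearMap.comp_apply, LinearEquiv.coe_coe] at h
    have h2 := congrArg (TensorProduct.assoc k R A A).symm h
    rw [LinearEquiv.symm_apply_apply] at h2
    have e : ∀ z : R ⊗[k] A, shear k A R (Algebra.TensorProduct.map ι₀ (AlgHom.id k A) z) =
        (TensorProduct.assoc k R A A).symm ((CoalgebraStruct.comul (R := k) (A := A)).lTensor R z) := by
      intro z
      induction z using TensorProduct.induction_on with
      | zero => simp
      | add y z hy hz => simp only [map_add, hy, hz]
      | tmul r a =>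
        rw [Algebra.TensorProduct.map_tmul, AlgHom.id_apply, LinearMap.lTensor_tmul]
        change shear k A R ((r ⊗ₜ[k] (1 : A)) ⊗ₜ[k] a) = _
        rw [shear_tmul]
        induction CoalgebraStruct.comul (R := k) a using TensorProduct.induction_on with
        | zero => simp
        | add y z hy hz => simp only [map_add, TensorProduct.tmul_add, mul_add, hy, hz]
        | tmul a b => simp [Algebra.TensorProduct.tmul_mul_tmul]
    rw [e, ← h2]
    have e2 : ∀ z : R ⊗[k] A, (HopfRep.Comod.coact (k := k) (A := A) (V := R)).rTensor A z =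
        Algebra.TensorProduct.map ρ (AlgHom.id k A) z := by
      intro z
      induction z using TensorProduct.induction_on with
      | zero => simp
      | add y z hy hz => simp only [map_add, hy, hz]
      | tmul r a => rfl
    exact e2 c
  let eΦ : W ≃ₗ[T] W := LinearEquiv.ofBijective (shear k A R).toLinearMap
    ⟨OrzechProperty.injective_of_surjective_endomorphism _ shear_surjective, shear_surjective⟩
  have hconj : eΦ.conj (LinearMap.mulLeft T F') = LinearMap.mulLeft T F := by
    refine LinearMap.ext fun y => ?_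
    rw [LinearEquiv.conj_apply_apply]
    change shear k A R (F' * eΦ.symm y) = F * y
    rw [map_mul, hΦ]
    exact congrArg (F * ·) (eΦ.apply_symm_apply y)
  have hcp : (Mt.map ρ).charpoly = (Mt.map ι₀).charpoly := by
    rw [← hmat ρ, ← hmat ι₀, LinearMap.charpoly_toMatrix, LinearMap.charpoly_toMatrix, ← hconj,
      LinearEquiv.charpoly_conj]
  have hinv : ∀ i, P.coeff i ∈ GLin.invariants k A R := by
    intro i
    have h := congrArg (fun p => Polynomial.coeff p i) hcp
    rw [show Mt.map ρ = Mt.map (ρ : R →+* T) from rfl, show Mt.map ι₀ = Mt.map (ι₀ : R →+* T) from rfl,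
      Matrix.charpoly_map, Matrix.charpoly_map] at h
    simp only [Polynomial.coeff_map] at h
    exact h
  let ev : T →ₐ[R] R := (Algebra.TensorProduct.rid k R R).toAlgHom.comp
    (Algebra.TensorProduct.map (AlgHom.id R R) (Bialgebra.counitAlgHom k A))
  have hev : ev c = f := by
    have h := LinearMap.congr_fun (HopfRep.Comod.counit_comp (k := k) (A := A) (V := R)) f
    simp only [LinearMap.comp_apply, LinearMap.flip_apply, TensorProduct.mk_apply] at h
    have e : ∀ z : R ⊗[k] A, ev z = TensorProduct.rid k R ((CoalgebraStruct.counit (R := k) (A := A)).lTensor R z) := by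
      intro z
      induction z using TensorProduct.induction_on with
      | zero => simp
      | add y z hy hz => simp only [map_add, hy, hz]
      | tmul r a =>
        change Algebra.TensorProduct.rid k R R (r ⊗ₜ[k] CoalgebraStruct.counit a) = _
        rw [LinearMap.lTensor_tmul]
        simp
    rw [e, h]
    simp
  have h0 : Polynomial.aeval f P = 0 := by
    have h1 : Polynomial.aeval c P = 0 := by
      have h2 := LinearMap.aeval_self_charpoly (Algebra.lmul R T c)
      rw [show (Algebra.lmul R T c).charpoly = P from (LinearMap.charpoly_toMatrix _ bR).symm,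
        Polynomial.aeval_algHom_apply] at h2
      simpa using LinearMap.congr_fun h2 1
    rw [← hev, Polynomial.aeval_algHom_apply, h1, map_zero]
  have hl : P ∈ Polynomial.lifts (algebraMap (GLin.invariants k A R) R) := by
    rw [Polynomial.lifts_iff_coeff_lifts]
    exact fun i => ⟨⟨_, hinv i⟩, rfl⟩
  obtain ⟨Q, hQ, -, hQm⟩ := Polynomial.lifts_and_degree_eq_and_monic hl (Matrix.charpoly_monic _)
  refine ⟨Q, hQm, ?_⟩
  rw [Polynomial.eval₂_eq_eval_map, hQ]
  simpa [Polynomial.aeval_def, Polynomial.eval₂_eq_eval_map] using h0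

end Integral

section Stable

variable (k A) in
/-- The extension of an ideal to `R ⊗ A`. -/
def extI (I : Ideal R) : Ideal (R ⊗[k] A) :=
  I.map (Algebra.TensorProduct.includeLeft : R →ₐ[k] R ⊗[k] A).toRingHom

variable (k A) in
/-- Stable ideals. -/
def Stable (I : Ideal R) : Prop := ∀ b ∈ I, GLin.coactAlgHom k A R b ∈ extI k A I

theorem contract_extI {I : Ideal R} {z : R ⊗[k] A} (hz : z ∈ extI k A I) (φ : A →ₗ[k] k) :
    contract R φ z ∈ I := by
  suffices h : ∀ w : R ⊗[k] A, contract R φ (w * z) ∈ I by simpa using h 1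
  rw [extI, Ideal.map] at hz
  induction hz using Submodule.span_induction with
  | mem y hy =>
    obtain ⟨i, hi, rfl⟩ := hy
    intro w
    induction w using TensorProduct.induction_on with
    | zero => simp
    | add a b ha hb => rw [add_mul, map_add]; exact add_mem ha hb
    | tmul r a =>
      change contract R φ (r ⊗ₜ[k] a * i ⊗ₜ[k] (1 : A)) ∈ I
      rw [Algebra.TensorProduct.tmul_mul_tmul, mul_one, contract_tmul]
      exact Submodule.smul_of_tower_mem _ _ (I.mul_mem_left r hi)
  | zero => intro w; simp
  | add a b _ _ ha hb => intro w; rw [mul_add, map_add]; exact add_mem (ha w) (hb w)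
  | smul c a _ ha => intro w; rw [smul_eq_mul, ← mul_assoc]; exact ha _

theorem stable_iff {I : Ideal R} : Stable k A I ↔ ∀ (φ : A →ₗ[k] k), ∀ b ∈ I, dact R φ b ∈ I := by
  classical
  refine ⟨fun h φ b hb => contract_extI (h b hb) φ, fun h b hb => ?_⟩
  rw [GLin.coactAlgHom_apply, eq_sum_contract_tmul (Module.Free.chooseBasis k A) (HopfRep.Comod.coact b)]
  refine Ideal.sum_mem _ fun i _ => ?_
  rw [show ∀ (r : R) (a : A), r ⊗ₜ[k] a = ((1 : R) ⊗ₜ[k] a) * (r ⊗ₜ[k] (1 : A)) from fun r a => by simp]
  exact Ideal.mul_mem_left _ _ (Ideal.mem_map_of_mem _ (h _ b hb))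

theorem stable_mul {I J : Ideal R} (hI : Stable k A I) (hJ : Stable k A J) : Stable k A (I * J) := by
  intro b hb
  refine Submodule.mul_induction_on hb (fun i hi j hj => ?_) fun x y hx hy => ?_
  · rw [map_mul, extI, Ideal.map_mul]
    exact Ideal.mul_mem_mul (hI i hi) (hJ j hj)
  · rw [map_add]; exact add_mem hx hy

theorem stable_sup {I J : Ideal R} (hI : Stable k A I) (hJ : Stable k A J) : Stable k A (I ⊔ J) := by
  intro b hb
  obtain ⟨i, hi, j, hj, rfl⟩ := Submodule.mem_sup.1 hb
  rw [map_add, extI, Ideal.map_sup]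
  exact add_mem (Ideal.mem_sup_left (hI i hi)) (Ideal.mem_sup_right (hJ j hj))

theorem stable_pow {I : Ideal R} (hI : Stable k A I) : ∀ n : ℕ, Stable k A (I ^ n)
  | 0 => by
    intro b _
    rw [pow_zero, Ideal.one_eq_top, extI, Ideal.map_top]
    trivial
  | n + 1 => by rw [pow_succ]; exact stable_mul (stable_pow hI n) hI

theorem stable_map (J : Ideal (GLin.invariants k A R)) :
    Stable k A (J.map (GLin.invariants k A R).val.toRingHom) := by
  intro b hb
  rw [Ideal.map] at hb
  induction hb using Submodule.span_induction with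
  | mem y hy =>
    obtain ⟨i, hi, rfl⟩ := hy
    rw [show GLin.coactAlgHom k A R ((GLin.invariants k A R).val.toRingHom i) = (i : R) ⊗ₜ[k] (1 : A) from i.2]
    exact Ideal.mem_map_of_mem _ (Ideal.mem_map_of_mem _ hi)
  | zero => simp
  | add x y _ _ hx hy => rw [map_add]; exact add_mem hx hy
  | smul c x _ hx => rw [smul_eq_mul, map_mul]; exact Ideal.mul_mem_left _ _ hx

theorem extI_le_span_coact {I : Ideal R} (hI : Stable k A I) :
    extI k A I ≤ Ideal.map (GLin.coactAlgHom k A R).toRingHom I := by
  classical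
  refine Ideal.map_le_iff_le_comap.2 fun b hb => ?_
  change b ⊗ₜ[k] (1 : A) ∈ Ideal.map (GLin.coactAlgHom k A R).toRingHom I
  let L : R ⊗[k] A →ₗ[k] R ⊗[k] A :=
    LinearMap.mul' k (R ⊗[k] A) ∘ₗ TensorProduct.map (GLin.coactAlgHom k A R).toLinearMap
      ((Algebra.TensorProduct.includeRight : A →ₐ[k] R ⊗[k] A).toLinearMap ∘ₗ HopfAlgebraStruct.antipode (R := k) (A := A))
  have hL : ∀ z : R ⊗[k] A, L z = (LinearMap.mul' k A ∘ₗ (HopfAlgebraStruct.antipode (R := k) (A := A)).lTensor A).lTensor R
      (TensorProduct.assoc k R A A ((HopfRep.Comod.coact (k := k) (A := A) (V := R)).rTensor A z)) := by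
    intro z
    induction z using TensorProduct.induction_on with
    | zero => simp
    | add y z hy hz => simp only [map_add, hy, hz]
    | tmul r a =>
      simp only [L, LinearMap.comp_apply, TensorProduct.map_tmul, AlgHom.toLinearMap_apply, GLin.coactAlgHom_apply,
        Algebra.TensorProduct.includeRight_apply, LinearMap.mul'_apply, LinearMap.rTensor_tmul]
      induction HopfRep.Comod.coact (k := k) (A := A) r using TensorProduct.induction_on with
      | zero => simp
      | add y z hy hz => simp only [map_add, add_mul, TensorProduct.add_tmul, hy, hz]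
      | tmul p q => simp [Algebra.TensorProduct.tmul_mul_tmul]
  have h1 := hL (HopfRep.Comod.coact (k := k) (A := A) b)
  have h := LinearMap.congr_fun (HopfRep.Comod.coassoc (k := k) (A := A) (V := R)) b
  have h' := LinearMap.congr_fun (HopfRep.Comod.counit_comp (k := k) (A := A) (V := R)) b
  simp only [LinearMap.comp_apply, LinearEquiv.coe_coe] at h h'
  rw [h, ← LinearMap.lTensor_comp_apply, LinearMap.comp_assoc, HopfAlgebra.mul_antipode_lTensor_comul,
    LinearMap.lTensor_comp_apply, h'] at h1
  rw [show b ⊗ₜ[k] (1 : A) = L (HopfRep.Comod.coact (k := k) (A := A) b) by rw [h1]; simp,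
    eq_sum_contract_tmul (Module.Free.chooseBasis k A) (HopfRep.Comod.coact b), map_sum]
  refine Ideal.sum_mem _ fun i _ => ?_
  simp only [L, LinearMap.comp_apply, TensorProduct.map_tmul, LinearMap.mul'_apply]
  exact Ideal.mul_mem_right _ _ (Ideal.mem_map_of_mem _ (stable_iff.1 hI _ b hb))

end Stable

section Fibre

variable (hG : HopfRep.IsLinearlyReductive k A) (x : R →ₐ[k] k)
include hG

/-- A stable maximal ideal of a rational point is nilpotent in the fibre of the quotient. -/
theorem exists_pow_le [Module.Finite k A] [Algebra.FiniteType k R] (hM : Stable k A (RingHom.ker x)) :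
    ∃ N : ℕ, RingHom.ker x ^ N ≤ (RingHom.ker (x.comp (GLin.invariants k A R).val)).map
      (GLin.invariants k A R).val.toRingHom := by
  classical
  obtain ⟨η, hη1, hη⟩ := H60.Haar.exists_haar (A := A) hG
  let S := GLin.invariants k A R
  let nn := RingHom.ker (x.comp S.val)
  let I0 := nn.map S.val.toRingHom
  let M := RingHom.ker x
  have hI0M : I0 ≤ M := Ideal.map_le_iff_le_comap.2 fun s hs => hs
  haveI := isIntegral_invariants (k := k) (A := A) (R := R)
  haveI : Algebra.FiniteType S R := Algebra.FiniteType.of_restrictScalars_finiteType k S R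
  haveI : Module.Finite S R := Algebra.IsIntegral.finite
  haveI : Module.Finite k (R ⧸ I0) := by
    obtain ⟨G, hGs⟩ := (Module.Finite.fg_top (R := S) (M := R))
    refine ⟨⟨G.image (Ideal.Quotient.mk I0), eq_top_iff.2 fun q _ => ?_⟩⟩
    obtain ⟨r, rfl⟩ := Ideal.Quotient.mk_surjective q
    have hr : r ∈ Submodule.span S (G : Set R) := hGs ▸ Submodule.mem_top
    induction hr using Submodule.span_induction with
    | mem y hy => exact Submodule.subset_span (Finset.mem_coe.2 (Finset.mem_image_of_mem _ hy))
    | zero => simp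
    | add y z _ _ hy hz => rw [map_add]; exact add_mem (hy trivial) (hz trivial)
    | smul s y _ hy =>
      have e : Ideal.Quotient.mk I0 (s • y) = x (s : R) • Ideal.Quotient.mk I0 y := by
        rw [Algebra.smul_def, Algebra.smul_def, map_mul, IsScalarTower.algebraMap_apply k R (R ⧸ I0)]
        congr 1
        refine Ideal.Quotient.eq.2 ?_
        have hs : s - algebraMap k S (x (s : R)) ∈ nn := by
          change x ((s : R) - algebraMap k R (x (s : R))) = 0
          rw [map_sub, AlgHom.commutes]
          exact sub_self _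
        exact Ideal.mem_map_of_mem S.val.toRingHom hs
      rw [e]
      exact Submodule.smul_mem _ _ (hy trivial)
  haveI : IsArtinianRing (R ⧸ I0) := IsArtinianRing.of_finite k _
  haveI : IsNoetherianRing (R ⧸ I0) := IsNoetherianRing.of_finite k _
  obtain ⟨N, hN⟩ := IsArtinian.monotone_stabilizes (R := R ⧸ I0) (M := R ⧸ I0)
    ⟨fun n => OrderDual.toDual ((M.map (Ideal.Quotient.mk I0)) ^ n),
      fun a b hab => Ideal.pow_le_pow_right hab⟩
  let Ib := (M.map (Ideal.Quotient.mk I0)) ^ (N + 1)
  have hidem : IsIdempotentElem Ib := by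
    change Ib * Ib = Ib
    rw [← pow_add, show (M.map (Ideal.Quotient.mk I0)) ^ (N + 1 + (N + 1)) = (M.map (Ideal.Quotient.mk I0)) ^ N from
      (OrderDual.toDual.injective (hN _ (by omega))).symm]
    exact OrderDual.toDual.injective (hN _ (by omega))
  obtain ⟨ē, hē, hIb⟩ := (Ideal.isIdempotentElem_iff_of_fg Ib (IsNoetherian.noetherian _)).1 hidem
  let I1 : Ideal R := M ^ (N + 1) ⊔ I0
  have hI1 : Stable k A I1 := stable_sup (stable_pow hM _) (stable_map nn)
  have hcomap : Ib.comap (Ideal.Quotient.mk I0) = I1 := by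
    rw [show Ib = (M ^ (N + 1)).map (Ideal.Quotient.mk I0) from (Ideal.map_pow ..).symm,
      Ideal.comap_map_of_surjective _ Ideal.Quotient.mk_surjective, ← RingHom.ker_eq_comap_bot, Ideal.mk_ker]
  obtain ⟨e, rfl⟩ := Ideal.Quotient.mk_surjective ē
  have heI : e ∈ I1 := by
    rw [← hcomap, Ideal.mem_comap, hIb]
    exact Ideal.mem_span_singleton_self _
  have hact : ∀ a ∈ I1, a - e * a ∈ I0 := by
    intro a ha
    rw [← hcomap, Ideal.mem_comap, hIb] at ha
    obtain ⟨c, hc⟩ := Ideal.mem_span_singleton'.1 ha
    refine Ideal.Quotient.eq.1 ?_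
    rw [map_mul, ← hc]
    conv_rhs => rw [mul_comm c, ← mul_assoc, hē.eq, mul_comm]
  -- the idempotent is invariant modulo the fibre
  let ρ := GLin.coactAlgHom k A R
  let K0 := extI k A I0
  have hleft : ∀ z ∈ extI k A I1, z - (e ⊗ₜ[k] (1 : A)) * z ∈ K0 := by
    intro z hz
    rw [extI, Ideal.map] at hz
    induction hz using Submodule.span_induction with
    | mem y hy =>
      obtain ⟨a, ha, rfl⟩ := hy
      have : (Algebra.TensorProduct.includeLeft : R →ₐ[k] R ⊗[k] A) (a - e * a) ∈ K0 :=
        Ideal.mem_map_of_mem _ (hact a ha)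
      rw [map_sub, map_mul] at this
      exact this
    | zero => simp
    | add y z _ _ hy hz => rw [mul_add, add_sub_add_comm]; exact add_mem hy hz
    | smul c y _ hy =>
      rw [smul_eq_mul, show c * y - e ⊗ₜ[k] (1 : A) * (c * y) = c * (y - e ⊗ₜ[k] (1 : A) * y) by ring]
      exact Ideal.mul_mem_left _ _ hy
  have hρI0 : ∀ z ∈ I0, ρ z ∈ K0 := stable_map nn
  have hright : (1 - ρ e) * (e ⊗ₜ[k] (1 : A)) ∈ K0 := by
    suffices h : ∀ z ∈ Ideal.map ρ.toRingHom I1, (1 - ρ e) * z ∈ K0 from
      h _ (extI_le_span_coact hI1 (Ideal.mem_map_of_mem _ heI))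
    intro z hz
    rw [Ideal.map] at hz
    induction hz using Submodule.span_induction with
    | mem y hy =>
      obtain ⟨a, ha, rfl⟩ := hy
      have := hρI0 _ (hact a ha)
      rw [map_sub, map_mul] at this
      rw [sub_mul, one_mul]
      exact this
    | zero => simp
    | add y z _ _ hy hz => rw [mul_add]; exact add_mem hy hz
    | smul c y _ hy => rw [smul_eq_mul, mul_left_comm]; exact Ideal.mul_mem_left _ _ hy
  have hfix : ρ e - e ⊗ₜ[k] (1 : A) ∈ K0 := by
    rw [show ρ e - e ⊗ₜ[k] (1 : A) = (ρ e - e ⊗ₜ[k] (1 : A) * ρ e) - (1 - ρ e) * (e ⊗ₜ[k] (1 : A)) by ring]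
    exact sub_mem (hleft _ (hI1 e heI)) hright
  have h2 := contract_extI hfix η
  rw [map_sub, contract_tmul, hη1, one_smul] at h2
  change dact R η e - e ∈ I0 at h2
  have heM : e ∈ M := by
    have : I1 ≤ M := sup_le (Ideal.pow_le_self (Nat.succ_ne_zero N)) hI0M
    exact this heI
  have hEe : (⟨dact R η e, hη R e⟩ : S) ∈ nn := by
    change x (dact R η e) = 0
    have : dact R η e - e ∈ M := hI0M h2
    rw [RingHom.mem_ker, map_sub, show x e = 0 from heM, sub_zero] at this
    exact this
  have heI0 : e ∈ I0 := by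
    have := sub_mem (Ideal.mem_map_of_mem S.val.toRingHom hEe) h2
    change dact R η e - (dact R η e - e) ∈ I0 at this
    rwa [sub_sub_cancel] at this
  refine ⟨N + 1, fun a ha => ?_⟩
  have := hact a (Ideal.mem_sup_left ha)
  have := add_mem this (Ideal.mul_mem_right a _ heI0)
  rwa [sub_add_cancel] at this

end Fibre

end

end Groth.Agent.H66.CST
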