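import Groth.Agent.H60.Haar
import Groth.Prelude.Def_W4c6stackyreslrsPsRefl
import Mathlib.RingTheory.HopfAlgebra.Quotient
import Mathlib.LinearAlgebra.Dual.Lemmas

/-!
The subgroup scheme fixing a vector modulo a stable subspace.
-/

set_option autoImplicit false
set_option linter.unusedSectionVars false
universe u v w

open TensorProduct
open Groth.Agent.Lib.Comod.Basic

namespace Groth.Agent.H66.CST

noncomputable section

variable {k : Type u} [Field k] {A : Type u} [CommRing A] [HopfAlgebra k A]
variable {V : Type u} [AddCommGroup V] [Module k V] [HopfRep.Comod k A V]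

/-- The ideal of the fixer. -/
def fixer (v : V) (W : Submodule k V) : Ideal A :=
  Ideal.span {a | ∃ ψ : V →ₗ[k] k, W ≤ LinearMap.ker ψ ∧ a = H60.Haar.coef ψ v - algebraMap k A (ψ v)}

theorem sub_mem_of_forall {W : Submodule k V} {x : V}
    (h : ∀ ψ : V →ₗ[k] k, W ≤ LinearMap.ker ψ → ψ x = 0) : x ∈ W := by
  by_contra hx
  obtain ⟨ψ, h1, h2⟩ := Submodule.exists_dual_map_eq_bot_of_notMem hx inferInstance
  refine h1 (h ψ fun w hw => ?_)
  rw [LinearMap.mem_ker, ← Submodule.mem_bot k, ← h2]
  exact Submodule.mem_map_of_mem hw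

theorem comp_mk_one (I : Ideal A) (φ : (A ⧸ I) →ₗ[k] k) :
    (φ.comp (Ideal.Quotient.mkₐ k I).toLinearMap) 1 = φ 1 := rfl

/-- The fixer fixes. -/
theorem dact_sub_mem (v : V) (W : Submodule k V) (φ : (A ⧸ fixer (A := A) v W) →ₗ[k] k) :
    dact V (φ.comp (Ideal.Quotient.mkₐ k _).toLinearMap) v - φ 1 • v ∈ W := by
  refine sub_mem_of_forall fun ψ hψ => ?_
  have h : Ideal.Quotient.mkₐ k (fixer (A := A) v W) (H60.Haar.coef ψ v - algebraMap k A (ψ v)) = 0 :=
    Ideal.Quotient.eq_zero_iff_mem.2 (Ideal.subset_span ⟨ψ, hψ, rfl⟩)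
  have h2 := congrArg φ h
  rw [map_sub, AlgHom.commutes, map_sub, map_zero, Algebra.algebraMap_eq_smul_one, map_smul, smul_eq_mul] at h2
  rw [map_sub, map_smul, smul_eq_mul, ← H60.Haar.apply_coef, mul_comm]
  exact h2

/-- An ideal fixing the class contains the fixer. -/
theorem fixer_le {v : V} {W : Submodule k V} {I : Ideal A}
    (h : ∀ φ : (A ⧸ I) →ₗ[k] k, dact V (φ.comp (Ideal.Quotient.mkₐ k I).toLinearMap) v - φ 1 • v ∈ W) :
    fixer (A := A) v W ≤ I := by
  refine Ideal.span_le.2 ?_
  rintro a ⟨ψ, hψ, rfl⟩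
  refine Ideal.Quotient.eq_zero_iff_mem.1 ((Module.forall_dual_apply_eq_zero_iff (R := k) _).1 fun φ => ?_)
  have h2 : ψ _ = 0 := hψ (h φ)
  rw [map_sub, map_smul, smul_eq_mul, ← H60.Haar.apply_coef, mul_comm] at h2
  change φ (Ideal.Quotient.mkₐ k I _) = 0
  rw [map_sub, AlgHom.commutes, map_sub, Algebra.algebraMap_eq_smul_one, map_smul, smul_eq_mul]
  exact h2

theorem isHopfIdeal_fixer (v : V) (W : Submodule k V)
    (hW : HopfRep.IsSubcomod (k := k) (A := A) W) : (fixer (A := A) v W).IsHopfIdeal k := by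
  classical
  let J := fixer (A := A) v W
  let q : A →ₐ[k] A ⧸ J := Ideal.Quotient.mkₐ k J
  have hq : ∀ ψ : V →ₗ[k] k, W ≤ LinearMap.ker ψ → q (H60.Haar.coef ψ v) = algebraMap k (A ⧸ J) (ψ v) := by
    intro ψ hψ
    rw [← AlgHom.commutes q, ← sub_eq_zero, ← map_sub]
    exact Ideal.Quotient.eq_zero_iff_mem.2 (Ideal.subset_span ⟨ψ, hψ, rfl⟩)
  haveI : (J.restrictScalars k).IsCoideal := by
    refine Submodule.IsCoideal.mk (fun x hx => ?_) fun x hx => ?_
    · change Bialgebra.counitAlgHom k A x = 0
      have : J ≤ RingHom.ker (Bialgebra.counitAlgHom k A) := by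
        refine Ideal.span_le.2 ?_
        rintro a ⟨ψ, hψ, rfl⟩
        change Bialgebra.counitAlgHom k A _ = 0
        rw [map_sub, AlgHom.commutes, Bialgebra.counitAlgHom_apply, H60.Haar.apply_coef, dact_counit_apply]
        exact sub_self _
      exact this hx
    · rw [show (Submodule.restrictScalars k J).mkQ = q.toLinearMap from rfl]
      change (Algebra.TensorProduct.map q q).comp (Bialgebra.comulAlgHom k A) x = 0
      have : J ≤ RingHom.ker ((Algebra.TensorProduct.map q q).comp (Bialgebra.comulAlgHom k A)) := by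
        refine Ideal.span_le.2 ?_
        rintro a ⟨ψ, hψ, rfl⟩
        change (Algebra.TensorProduct.map q q).comp (Bialgebra.comulAlgHom k A) _ = 0
        rw [map_sub, AlgHom.commutes, sub_eq_zero]
        refine ext_contract (A := A ⧸ J) fun φ₂ => ?_
        refine eq_of_sub_eq_zero ((Module.forall_dual_apply_eq_zero_iff (R := k) _).1 fun φ₁ => ?_)
        have e : ∀ y : A ⊗[k] A, φ₁ (contract (A ⧸ J) φ₂ (Algebra.TensorProduct.map q q y)) =
            LinearMap.mul' k k (TensorProduct.map (φ₁.comp q.toLinearMap) (φ₂.comp q.toLinearMap) y) := by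
          intro y
          induction y using TensorProduct.induction_on with
          | zero => simp
          | add y z hy hz => simp only [map_add, hy, hz]
          | tmul a b => simp [mul_comm]
        have e1 : φ₁ (contract (A ⧸ J) φ₂ (algebraMap k ((A ⧸ J) ⊗[k] (A ⧸ J)) (ψ v))) = φ₁ 1 * φ₂ 1 * ψ v := by
          rw [Algebra.algebraMap_eq_smul_one, Algebra.TensorProduct.one_def, map_smul, contract_tmul, map_smul,
            map_smul, smul_eq_mul, smul_eq_mul]
          ring
        rw [map_sub, e1, AlgHom.comp_apply, Bialgebra.comulAlgHom_apply, e]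
        change conv (φ₁.comp q.toLinearMap) (φ₂.comp q.toLinearMap) (H60.Haar.coef ψ v) - _ = 0
        rw [H60.Haar.apply_coef, ← dact_dact]
        have h2 := dact_sub_mem (A := A) v W φ₂
        have h1 := dact_sub_mem (A := A) v W φ₁
        have h3 : ψ (dact V (φ₁.comp q.toLinearMap) (dact V (φ₂.comp q.toLinearMap) v - φ₂ 1 • v)) = 0 :=
          hψ (dact_mem hW _ h2)
        have h4 : ψ _ = 0 := hψ h1
        rw [map_sub, map_sub, map_smul, map_smul, smul_eq_mul, sub_eq_zero] at h3
        rw [map_sub, map_smul, smul_eq_mul, sub_eq_zero] at h4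
        rw [h3, h4]
        ring
      exact this hx
  refine Ideal.IsHopfIdeal.mk fun x hx => ?_
  refine Ideal.Quotient.eq_zero_iff_mem.1 ?_
  change q.comp (HopfAlgebra.antipodeAlgHom k A) x = 0
  have : J ≤ RingHom.ker (q.comp (HopfAlgebra.antipodeAlgHom k A)) := by
    refine Ideal.span_le.2 ?_
    rintro a ⟨ψ, hψ, rfl⟩
    change q.comp (HopfAlgebra.antipodeAlgHom k A) _ = 0
    rw [map_sub, AlgHom.commutes, sub_eq_zero]
    have hfix : TensorProduct.map W.mkQ q.toLinearMap (HopfRep.Comod.coact (k := k) (A := A) v) =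
        W.mkQ v ⊗ₜ[k] (1 : A ⧸ J) := by
      refine ext_contract fun φ => ?_
      rw [contract_tmul, ← map_smul, ← LinearMap.rTensor_comp_lTensor, LinearMap.comp_apply, contract_rTensor,
        contract_lTensor]
      exact (Submodule.Quotient.eq W).2 (dact_sub_mem v W φ)
    have hker : W ≤ LinearMap.ker ((q.comp (HopfAlgebra.antipodeAlgHom k A)).toLinearMap ∘ₗ H60.Haar.coef ψ) := by
      intro w hw
      have h0 : H60.Haar.coef (A := A) ψ w = 0 := (Module.forall_dual_apply_eq_zero_iff (R := k) _).1 fun φ => by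
        rw [H60.Haar.apply_coef]
        exact hψ (dact_mem hW φ hw)
      simp [h0]
    let f := W.liftQ _ hker
    have hc : CoalgebraStruct.comul (R := k) (H60.Haar.coef (A := A) ψ v) =
        (H60.Haar.coef (A := A) ψ).rTensor A (HopfRep.Comod.coact (k := k) (A := A) v) :=
      LinearMap.congr_fun (H60.Haar.isComodHom_coef (A := A) ψ) v
    have h1 := congrArg q (HopfAlgebra.mul_antipode_rTensor_comul_apply (R := k) (H60.Haar.coef (A := A) ψ v))
    rw [hc, AlgHom.commutes, H60.Haar.apply_coef, dact_counit_apply] at h1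
    have e : ∀ y : V ⊗[k] A, q (LinearMap.mul' k A ((HopfAlgebraStruct.antipode (R := k) (A := A)).rTensor A
        ((H60.Haar.coef (A := A) ψ).rTensor A y))) =
        LinearMap.mul' k (A ⧸ J) (TensorProduct.map f LinearMap.id (TensorProduct.map W.mkQ q.toLinearMap y)) := by
      intro y
      induction y using TensorProduct.induction_on with
      | zero => simp
      | add y z hy hz => simp only [map_add, hy, hz]
      | tmul a b =>
        simp only [LinearMap.rTensor_tmul, LinearMap.mul'_apply, map_mul, TensorProduct.map_tmul, LinearMap.id_apply]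
        rfl
    rw [e, hfix, TensorProduct.map_tmul, LinearMap.mul'_apply, LinearMap.id_apply, mul_one] at h1
    exact h1
  exact this hx

theorem mem_quotInvariants_iff {R : Type u} [AddCommGroup R] [Module k R] [HopfRep.Comod k A R]
    (I : Ideal A) (f : R) : f ∈ GLin.quotInvariants k A R I ↔
      ∀ φ : (A ⧸ I) →ₗ[k] k, dact R (φ.comp (Ideal.Quotient.mkₐ k I).toLinearMap) f = φ 1 • f := by
  rw [GLin.mem_quotInvariants_iff]
  constructor
  · intro h φ
    rw [dact_apply, ← contract_lTensor, h, contract_tmul]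
  · intro h
    refine ext_contract fun φ => ?_
    rw [contract_lTensor, contract_tmul]
    exact h φ

/-- Fixed modulo a stable subspace by every pseudo-reflection implies fixed by the group they generate. -/
theorem fixer_le_genIdeal {ι : Type u} [HopfRep.Comod k A (MvPolynomial ι k)] (v : V) (W : Submodule k V)
    (hW : HopfRep.IsSubcomod (k := k) (A := A) W)
    (h : ∀ I : Ideal A, GLin.IsPseudoRefl k A ι I → ∀ φ : (A ⧸ I) →ₗ[k] k,
      dact V (φ.comp (Ideal.Quotient.mkₐ k I).toLinearMap) v - φ 1 • v ∈ W) :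
    fixer (A := A) v W ≤ GLin.genIdeal k A ι :=
  le_sSup ⟨isHopfIdeal_fixer v W hW, fun I hI => fixer_le (h I hI)⟩

end

end Groth.Agent.H66.CST
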