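import Groth.Agent.H66.CST.Fixer
import Groth.Prelude.Def_GLin2
import Mathlib.RingTheory.MvPolynomial.Homogeneous
import Mathlib.RingTheory.Flat.FaithfullyFlat.Basic
import Mathlib.LinearAlgebra.Dimension.Constructions

/-!
Chevalley–Shephard–Todd, first part: the polynomial ring is free over the invariants of a group
generated by pseudo-reflections.
-/

set_option autoImplicit false
set_option linter.unusedSectionVars false
universe u v w

open TensorProduct MvPolynomial
open Groth.Agent.Lib.Comod.Basic

namespace Groth.Agent.H66.CST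

noncomputable section

variable {k : Type u} [Field k] {A : Type u} [CommRing A] [HopfAlgebra k A]
variable {ι : Type u}

section Degree

variable (k A ι) in
/-- The degree `d` part of `R ⊗ A`. -/
def GT (d : ℕ) : Submodule k (MvPolynomial ι k ⊗[k] A) :=
  Submodule.span k {z | ∃ (x : MvPolynomial ι k) (a : A), x.IsHomogeneous d ∧ x ⊗ₜ[k] a = z}

theorem tmul_mem_GT {d : ℕ} {x : MvPolynomial ι k} (hx : x.IsHomogeneous d) (a : A) :
    x ⊗ₜ[k] a ∈ GT k A ι d := Submodule.subset_span ⟨x, a, hx, rfl⟩

theorem one_mem_GT : (1 : MvPolynomial ι k ⊗[k] A) ∈ GT k A ι 0 := by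
  rw [Algebra.TensorProduct.one_def]
  exact tmul_mem_GT (isHomogeneous_one ι k) 1

theorem mul_mem_GT {d e : ℕ} {y z : MvPolynomial ι k ⊗[k] A} (hy : y ∈ GT k A ι d) (hz : z ∈ GT k A ι e) :
    y * z ∈ GT k A ι (d + e) := by
  induction hy using Submodule.span_induction with
  | mem y hy =>
    obtain ⟨x, a, hx, rfl⟩ := hy
    induction hz using Submodule.span_induction with
    | mem z hz =>
      obtain ⟨x', a', hx', rfl⟩ := hz
      rw [Algebra.TensorProduct.tmul_mul_tmul]
      exact tmul_mem_GT (hx.mul hx') _
    | zero => simp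
    | add y z _ _ hy hz => rw [mul_add]; exact add_mem hy hz
    | smul c y _ hy => rw [mul_smul_comm]; exact Submodule.smul_mem _ c hy
  | zero => simp
  | add y z _ _ hy hz => rw [add_mul]; exact add_mem hy hz
  | smul c y _ hy => rw [smul_mul_assoc]; exact Submodule.smul_mem _ c hy

theorem pow_mem_GT {d : ℕ} {y : MvPolynomial ι k ⊗[k] A} (hy : y ∈ GT k A ι d) :
    ∀ m : ℕ, y ^ m ∈ GT k A ι (m * d)
  | 0 => by simpa using one_mem_GT
  | m + 1 => by rw [pow_succ, Nat.succ_mul]; exact mul_mem_GT (pow_mem_GT hy m) hy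

theorem prod_mem_GT {κ : Type*} (s : Finset κ) (f : κ → MvPolynomial ι k ⊗[k] A) (d : κ → ℕ)
    (h : ∀ i ∈ s, f i ∈ GT k A ι (d i)) : ∏ i ∈ s, f i ∈ GT k A ι (∑ i ∈ s, d i) := by
  classical
  induction s using Finset.induction_on with
  | empty => simpa using one_mem_GT
  | insert i s hi ih =>
    rw [Finset.prod_insert hi, Finset.sum_insert hi]
    exact mul_mem_GT (h i (Finset.mem_insert_self i s)) (ih fun j hj => h j (Finset.mem_insert_of_mem hj))

theorem contract_GT {d : ℕ} {z : MvPolynomial ι k ⊗[k] A} (hz : z ∈ GT k A ι d) (φ : A →ₗ[k] k) :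
    (contract (MvPolynomial ι k) φ z).IsHomogeneous d := by
  induction hz using Submodule.span_induction with
  | mem z hz =>
    obtain ⟨x, a, hx, rfl⟩ := hz
    rw [contract_tmul]
    exact Submodule.smul_mem (homogeneousSubmodule ι k d) _ hx
  | zero => simpa using isHomogeneous_zero ι k d
  | add y z _ _ hy hz => rw [map_add]; exact hy.add hz
  | smul c y _ hy => rw [map_smul]; exact Submodule.smul_mem (homogeneousSubmodule ι k d) c hy

end Degree

variable [Fintype ι] [HopfRep.Comod k A (MvPolynomial ι k)] [GLin.IsCoactAlg k A (MvPolynomial ι k)]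

local notation "R" => MvPolynomial ι k

theorem coact_mem_GT (hlin : GLin.IsLinear k A ι) {d : ℕ} {p : R} (hp : p.IsHomogeneous d) :
    HopfRep.Comod.coact (k := k) (A := A) p ∈ GT k A ι d := by
  rw [p.as_sum, map_sum]
  refine Submodule.sum_mem _ fun m hm => ?_
  have hd : m.degree = d := by
    have := hp (mem_support_iff.1 hm)
    rw [Finsupp.degree_eq_weight_one]
    exact this
  rw [monomial_eq, ← smul_eq_C_mul, map_smul]
  refine Submodule.smul_mem _ _ ?_
  rw [Finsupp.prod, ← GLin.coactAlgHom_apply, map_prod, ← hd, Finsupp.degree]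
  refine prod_mem_GT _ _ _ fun i _ => ?_
  rw [map_pow]
  have hX : GLin.coactAlgHom k A R (X i) ∈ GT k A ι 1 := by
    obtain ⟨m', hm'⟩ := hlin i
    rw [GLin.coactAlgHom_apply, hm']
    exact Submodule.sum_mem _ fun j _ => tmul_mem_GT (isHomogeneous_X k j) _
  simpa using pow_mem_GT hX (m i)

theorem dact_isHomogeneous (hlin : GLin.IsLinear k A ι) {d : ℕ} {p : R} (hp : p.IsHomogeneous d)
    (φ : A →ₗ[k] k) : (dact R φ p).IsHomogeneous d :=
  contract_GT (coact_mem_GT hlin hp) φ

theorem comp_dact (hlin : GLin.IsLinear k A ι) (φ : A →ₗ[k] k) (p : R) (d : ℕ) :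
    homogeneousComponent d (dact R φ p) = dact R φ (homogeneousComponent d p) := by
  classical
  conv_lhs => rw [← sum_homogeneousComponent p, map_sum, map_sum]
  simp only [homogeneousComponent_of_mem (dact_isHomogeneous hlin (homogeneousComponent_isHomogeneous _ p) φ)]
  rw [Finset.sum_ite_eq]
  split_ifs with h
  · rfl
  · rw [homogeneousComponent_eq_zero d p (by simp at h; omega), map_zero]

theorem mem_invariants_iff {p : R} :
    p ∈ GLin.invariants k A R ↔ ∀ φ : A →ₗ[k] k, dact R φ p = φ 1 • p :=
  Lib.Comod.Reynolds.mem_fixedPts_iff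

theorem comp_mem_invariants (hlin : GLin.IsLinear k A ι) {p : R} (hp : p ∈ GLin.invariants k A R) (d : ℕ) :
    homogeneousComponent d p ∈ GLin.invariants k A R := by
  rw [mem_invariants_iff] at hp ⊢
  intro φ
  rw [← comp_dact hlin, hp φ, map_smul]

theorem dact_mul_inv (φ : A →ₗ[k] k) (p : R) {s : R} (hs : s ∈ GLin.invariants k A R) :
    dact R φ (p * s) = dact R φ p * s := by
  rw [dact_apply, dact_apply, GLin.IsCoactAlg.coact_mul (k := k) (A := A),
    show HopfRep.Comod.coact (k := k) (A := A) s = s ⊗ₜ[k] (1 : A) from hs]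
  induction HopfRep.Comod.coact (k := k) (A := A) p using TensorProduct.induction_on with
  | zero => simp
  | add y z hy hz => simp only [add_mul, map_add, hy, hz]
  | tmul x a => simp [Algebra.TensorProduct.tmul_mul_tmul]

variable (k A ι) in
/-- The ideal of the invariants of positive degree. -/
def posIdeal : Ideal R :=
  Ideal.span {s | s ∈ GLin.invariants k A R ∧ ∃ d, 0 < d ∧ s.IsHomogeneous d}

theorem mem_posIdeal {s : R} {d : ℕ} (hs : s ∈ GLin.invariants k A R) (hd : 0 < d) (h : s.IsHomogeneous d) :
    s ∈ posIdeal k A ι := Ideal.subset_span ⟨hs, d, hd, h⟩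

theorem isSubcomod_posIdeal :
    HopfRep.IsSubcomod (k := k) (A := A) ((posIdeal k A ι).restrictScalars k) := by
  refine (isSubcomod_iff _).2 fun φ w hw => ?_
  rw [Submodule.restrictScalars_mem] at hw ⊢
  suffices h : ∀ r : R, dact R φ (r * w) ∈ posIdeal k A ι by simpa using h 1
  induction hw using Submodule.span_induction with
  | mem x hx =>
    intro r
    rw [dact_mul_inv φ r hx.1]
    exact Ideal.mul_mem_left _ _ (Ideal.subset_span hx)
  | zero => intro r; simp
  | add x y _ _ hx hy => intro r; rw [mul_add, map_add]; exact add_mem (hx r) (hy r)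
  | smul c x _ hx => intro r; rw [smul_eq_mul, ← mul_assoc]; exact hx _

theorem posIdeal_le_vars {p : R} (hp : p ∈ posIdeal k A ι) : constantCoeff p = 0 := by
  induction hp using Submodule.span_induction with
  | mem x hx =>
    obtain ⟨-, d, hd, h⟩ := hx
    exact h.coeff_eq_zero (by simp; omega)
  | zero => simp
  | add x y _ _ hx hy => simp [hx, hy]
  | smul c x _ hx => simp [hx]

theorem comp_mul {a f : R} {e : ℕ} (hf : f.IsHomogeneous e) (d : ℕ) :
    homogeneousComponent d (a * f) = if e ≤ d then homogeneousComponent (d - e) a * f else 0 := by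
  conv_lhs => rw [← sum_homogeneousComponent a, Finset.sum_mul, map_sum]
  simp only [homogeneousComponent_of_mem ((homogeneousComponent_isHomogeneous _ a).mul hf)]
  by_cases hed : e ≤ d
  · rw [if_pos hed, Finset.sum_eq_single (d - e)]
    · rw [if_pos (by omega)]
    · intro i _ hi
      rw [if_neg (by omega)]
    · intro hi
      rw [homogeneousComponent_eq_zero _ _ (by simp at hi; omega)]
      simp
  · rw [if_neg hed]
    exact Finset.sum_eq_zero fun i _ => if_neg (by omega)

theorem isHomogeneous_of_mul {l q : R} {d : ℕ} (hl : l.IsHomogeneous 1) (hl0 : l ≠ 0)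
    (h : (l * q).IsHomogeneous (d + 1)) : q.IsHomogeneous d := by
  have e := comp_mul (a := q) hl (d + 1)
  rw [mul_comm q l, homogeneousComponent_of_mem h, if_pos rfl, if_pos (by omega), Nat.add_sub_cancel,
    mul_comm (homogeneousComponent d q)] at e
  rw [mul_left_cancel₀ hl0 e]
  exact homogeneousComponent_isHomogeneous d q

section Refl

variable (hlin : GLin.IsLinear k A ι)
  (hsub : ∀ (I : Ideal A) [I.IsHopfIdeal k], HopfRep.IsLinearlyReductive k (A ⧸ I))
include hlin hsub

/-- A pseudo-reflection moves everything along one linear form. -/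
theorem exists_form (I : Ideal A) (hI : GLin.IsPseudoRefl k A ι I) :
    ∃ l : R, l ≠ 0 ∧ l.IsHomogeneous 1 ∧ ∀ (φ : (A ⧸ I) →ₗ[k] k) (p : R),
      l ∣ dact R (φ.comp (Ideal.Quotient.mkₐ k I).toLinearMap) p - φ 1 • p := by
  classical
  haveI := hI.1
  let B := A ⧸ I
  let qb : A →ₐc[k] B := Bialgebra.Quotient.mkBialgHom I
  let c₀ : HopfRep.Comod k A R := inferInstance
  letI cB : HopfRep.Comod k B R := GLin.comodAlong qb c₀
  have hdact : ∀ (φ : B →ₗ[k] k) (p : R),
      @dact k _ B _ _ _ R _ _ cB φ p = dact (A := A) R (φ.comp (Ideal.Quotient.mkₐ k I).toLinearMap) p := by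
    intro φ p
    change contract R φ ((Ideal.Quotient.mkₐ k I).toLinearMap.lTensor R (c₀.coact p)) = _
    rw [contract_lTensor]
    rfl
  let L1 := GLin.linForms k ι
  have hL1 : HopfRep.IsSubcomod (k := k) (A := B) L1 := (isSubcomod_iff L1).2 fun φ w hw => by
    rw [hdact]
    exact dact_isHomogeneous hlin hw _
  let W := L1 ⊓ HopfRep.fixedPts k B R
  have hW : W = L1 ⊓ GLin.quotInvariants k A R I := by
    refine Submodule.ext fun x => and_congr_right fun _ => ?_
    rw [SetLike.mem_coe, SetLike.mem_coe, Lib.Comod.Reynolds.mem_fixedPts_iff, mem_quotInvariants_iff]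
    simp only [hdact]
    exact Iff.rfl
  have hWs : HopfRep.IsSubcomod (k := k) (A := B) W := isSubcomod_inf hL1 Lib.Comod.Reynolds.isSubcomod_fixedPts
  obtain ⟨C', hC', hc⟩ := Lib.Comod.Reynolds.exists_isCompl (hsub I) hWs
  let L := C' ⊓ L1
  have hL : HopfRep.IsSubcomod (k := k) (A := B) L := isSubcomod_inf hC' hL1
  have hsup : W ⊔ L = L1 := by
    rw [show W ⊔ L = W ⊔ C' ⊓ L1 from rfl, ← sup_inf_assoc_of_le C' (inf_le_left : W ≤ L1), hc.sup_eq_top, top_inf_eq]
  haveI : FiniteDimensional k L1 := by
    change FiniteDimensional k (homogeneousSubmodule ι k 1)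
    rw [homogeneousSubmodule_one_eq_span_X]
    exact FiniteDimensional.span_of_finite k (Set.finite_range _)
  haveI : FiniteDimensional k W := Submodule.finiteDimensional_of_le (inf_le_left : W ≤ L1)
  haveI : FiniteDimensional k L := Submodule.finiteDimensional_of_le (inf_le_right : L ≤ L1)
  have hLW : W ⊓ L = ⊥ := le_bot_iff.1 ((inf_le_inf_left W inf_le_left).trans hc.inf_eq_bot.le)
  have hfr : Module.finrank k L = 1 := by
    have h1 := Submodule.finrank_sup_add_finrank_inf_eq W L
    rw [hsup, hLW, finrank_bot, add_zero] at h1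
    have h2 := hI.2
    rw [← hW] at h2
    change Module.finrank k W + 1 = Module.finrank k L1 at h2
    omega
  obtain ⟨⟨l, hl⟩, hl0, hspan⟩ := finrank_eq_one_iff'.1 hfr
  have hl0' : l ≠ 0 := fun h => hl0 (Subtype.ext h)
  refine ⟨l, hl0', hl.2, fun φ p => ?_⟩
  let K := Ideal.span ({l ⊗ₜ[k] (1 : B)} : Set (R ⊗[k] B))
  let Ψ : R →ₐ[k] R ⊗[k] B :=
    (Algebra.TensorProduct.map (AlgHom.id k R) (Ideal.Quotient.mkₐ k I)).comp (GLin.coactAlgHom k A R)
  have hΨ : ∀ x : R, Ψ x = cB.coact x := by
    intro x
    change Algebra.TensorProduct.map _ _ (c₀.coact x) = TensorProduct.map _ _ (c₀.coact x)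
    induction c₀.coact x using TensorProduct.induction_on with
    | zero => simp
    | add y z hy hz => simp only [map_add, hy, hz]
    | tmul a b => rfl
  have hlmem : ∀ z : R ⊗[k] B, z ∈ LinearMap.range (L.subtype.rTensor B) → z ∈ K := by
    rintro z ⟨y, rfl⟩
    induction y using TensorProduct.induction_on with
    | zero => simp
    | add y z hy hz => rw [map_add]; exact add_mem hy hz
    | tmul a b =>
      obtain ⟨c, hc'⟩ := hspan a
      rw [LinearMap.rTensor_tmul, ← hc', map_smul, Submodule.subtype_apply,
        show (c • l) ⊗ₜ[k] b = (l ⊗ₜ[k] (1 : B)) * ((1 : R) ⊗ₜ[k] (c • b)) by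
          rw [Algebra.TensorProduct.tmul_mul_tmul, mul_one, one_mul, TensorProduct.smul_tmul]]
      exact Ideal.mul_mem_right _ _ (Ideal.mem_span_singleton_self _)
  have hX : (Ideal.Quotient.mkₐ k K).comp Ψ = (Ideal.Quotient.mkₐ k K).comp Algebra.TensorProduct.includeLeft := by
    refine MvPolynomial.algHom_ext fun j => ?_
    have hj : (X j : R) ∈ W ⊔ L := by rw [hsup]; exact isHomogeneous_X k j
    obtain ⟨w, hw, y, hy, hwy⟩ := Submodule.mem_sup.1 hj
    refine Ideal.Quotient.eq.2 ?_
    change Ψ (X j) - (X j : R) ⊗ₜ[k] (1 : B) ∈ K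
    rw [hΨ, ← hwy, map_add, TensorProduct.add_tmul,
      show cB.coact w = w ⊗ₜ[k] (1 : B) from hw.2, add_sub_add_left_eq_sub]
    exact sub_mem (hlmem _ (hL y hy)) (hlmem _ ⟨(⟨y, hy⟩ : L) ⊗ₜ[k] (1 : B), rfl⟩)
  have h := Ideal.Quotient.eq.1 (AlgHom.congr_fun hX p)
  change Ψ p - p ⊗ₜ[k] (1 : B) ∈ K at h
  rw [hΨ] at h
  obtain ⟨z, hz⟩ := Ideal.mem_span_singleton'.1 h
  refine ⟨contract R φ z, ?_⟩
  have h2 := congrArg (contract R φ) hz
  rw [map_sub, contract_tmul, show contract R φ (cB.coact p) = @dact k _ B _ _ _ R _ _ cB φ p from rfl, hdact] at h2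
  rw [← h2]
  clear hz h h2
  induction z using TensorProduct.induction_on with
  | zero => simp
  | add y z hy hz => simp only [add_mul, map_add, hy, hz, mul_add]
  | tmul a b => simp [Algebra.TensorProduct.tmul_mul_tmul, mul_comm]

end Refl

section Key

variable (hlin : GLin.IsLinear k A ι) (hG : HopfRep.IsLinearlyReductive k A)
  (hsub : ∀ (I : Ideal A) [I.IsHopfIdeal k], HopfRep.IsLinearlyReductive k (A ⧸ I))
  (hgen : GLin.IsGenByPseudoRefl k A ι)
include hlin hG hsub hgen

/-- The key lemma of Chevalley. -/
theorem key {κ : Type*} [Fintype κ] (s₀ : R) (s : κ → R) (hs₀ : s₀ ∈ GLin.invariants k A R)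
    (hs : ∀ i, s i ∈ GLin.invariants k A R)
    (hnot : ∀ t : κ → R, (∀ i, t i ∈ GLin.invariants k A R) → s₀ ≠ ∑ i, t i * s i) :
    ∀ (d : ℕ) (p₀ : R) (p : κ → R), p₀.IsHomogeneous d → p₀ * s₀ + ∑ i, p i * s i = 0 →
      p₀ ∈ posIdeal k A ι := by
  classical
  obtain ⟨η, hη1, hη⟩ := H60.Haar.exists_haar (A := A) hG
  have hE : ∀ x : R, dact R η x ∈ GLin.invariants k A R := fun x => hη R x
  intro d
  induction d with
  | zero =>
    intro p₀ p hp hrel
    have hc : p₀ = C (coeff 0 p₀) := by
      rw [← homogeneousComponent_zero, homogeneousComponent_of_mem hp, if_pos rfl]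
    by_cases h0 : coeff 0 p₀ = 0
    · rw [hc, h0, map_zero]; exact zero_mem _
    exfalso
    have h2 := congrArg (dact R η) hrel
    rw [map_add, map_sum, map_zero, dact_mul_inv η p₀ hs₀, hc,
      show (C (coeff 0 p₀) : R) = coeff 0 p₀ • (1 : R) by rw [smul_eq_C_mul, mul_one], map_smul,
      (mem_invariants_iff.1 (one_mem (GLin.invariants k A R))) η, hη1, one_smul, smul_mul_assoc, one_mul] at h2
    simp only [fun i => dact_mul_inv η (p i) (hs i)] at h2
    refine hnot (fun i => -((coeff 0 p₀)⁻¹ • dact R η (p i)))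
      (fun i => neg_mem (Subalgebra.smul_mem _ (hE _) _)) ?_
    have h3 := congrArg ((coeff 0 p₀)⁻¹ • ·) h2
    simp only [smul_add, smul_zero, smul_smul, inv_mul_cancel₀ h0, one_smul, Finset.smul_sum] at h3
    simp only [neg_mul, smul_mul_assoc, Finset.sum_neg_distrib]
    exact eq_neg_of_add_eq_zero_left h3
  | succ d ih =>
    intro p₀ p hp hrel
    have hfix : ∀ I : Ideal A, GLin.IsPseudoRefl k A ι I → ∀ φ : (A ⧸ I) →ₗ[k] k,
        dact R (φ.comp (Ideal.Quotient.mkₐ k I).toLinearMap) p₀ - φ 1 • p₀ ∈
          (posIdeal k A ι).restrictScalars k := by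
      intro I hI φ
      obtain ⟨l, hl0, hl, hdiv⟩ := exists_form hlin hsub I hI
      obtain ⟨q₀, hq₀⟩ := hdiv φ p₀
      choose q hq using fun i => hdiv φ (p i)
      have hq₀h : q₀.IsHomogeneous d := isHomogeneous_of_mul hl hl0 (hq₀ ▸
        (dact_isHomogeneous hlin hp _).sub (Submodule.smul_mem (homogeneousSubmodule ι k (d + 1)) _ hp))
      have hrel' : q₀ * s₀ + ∑ i, q i * s i = 0 := by
        refine mul_left_cancel₀ hl0 ?_
        rw [mul_zero, mul_add, Finset.mul_sum]
        simp only [← mul_assoc, ← hq₀, ← hq, sub_mul, Finset.sum_sub_distrib, smul_mul_assoc]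
        set φ' := φ.comp (Ideal.Quotient.mkₐ k I).toLinearMap with hφ'
        simp only [← fun i => dact_mul_inv φ' (p i) (hs i), ← dact_mul_inv φ' p₀ hs₀, ← map_sum,
          ← Finset.smul_sum]
        rw [← add_sub_add_comm, ← map_add, ← smul_add, hrel, map_zero, smul_zero, sub_zero]
      rw [Submodule.restrictScalars_mem, hq₀]
      exact Ideal.mul_mem_left _ _ (ih q₀ q hq₀h hrel')
    have hle := fixer_le_genIdeal (ι := ι) p₀ ((posIdeal k A ι).restrictScalars k) isSubcomod_posIdeal hfix
    rw [show GLin.genIdeal k A ι = ⊥ from hgen] at hle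
    have hbot : fixer (A := A) p₀ ((posIdeal k A ι).restrictScalars k) = ⊥ := le_bot_iff.1 hle
    have h := dact_sub_mem (A := A) p₀ ((posIdeal k A ι).restrictScalars k)
      (η.comp (((Submodule.quotEquivOfEqBot _ hbot).restrictScalars k).toLinearMap))
    change dact R η p₀ - η 1 • p₀ ∈ posIdeal k A ι at h
    rw [hη1, one_smul] at h
    have := sub_mem (mem_posIdeal (hE p₀) (Nat.succ_pos d) (dact_isHomogeneous hlin hp η)) h
    rwa [sub_sub_cancel] at this

/-- Independence over the invariants of homogeneous elements independent modulo `posIdeal`. -/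
theorem indep_aux {J : Type*} [DecidableEq J] : ∀ (m : ℕ) (F : Finset J), F.card = m →
    ∀ (e : J → R) (dg : J → ℕ), (∀ j ∈ F, (e j).IsHomogeneous (dg j)) →
      (∀ c : J → k, ∑ j ∈ F, c j • e j ∈ posIdeal k A ι → ∀ j ∈ F, c j = 0) →
      ∀ (N : ℕ) (t : J → R), (∀ j ∈ F, t j ∈ GLin.invariants k A R) →
        (∀ j ∈ F, (t j).IsHomogeneous (N - dg j) ∧ (N < dg j → t j = 0)) →
        ∑ j ∈ F, t j * e j = 0 → ∀ j ∈ F, t j = 0 := by
  classical
  intro m
  induction m with
  | zero => intro F hF; rw [Finset.card_eq_zero.1 hF]; simp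
  | succ m ih =>
    intro F hF e dg he hind N t hti hth hrel
    obtain ⟨a, F', ha, rfl, hF'⟩ := Finset.card_eq_succ.1 hF
    have haF : a ∈ insert a F' := Finset.mem_insert_self a F'
    by_cases hcomb : ∀ u : F' → R, (∀ j, u j ∈ GLin.invariants k A R) → t a ≠ ∑ j, u j * t j.1
    · exfalso
      have hea : e a ∈ posIdeal k A ι := key hlin hG hsub hgen (t a) (fun j : F' => t j.1) (hti a haF)
        (fun j => hti _ (Finset.mem_insert_of_mem j.2)) hcomb (dg a) (e a) (fun j : F' => e j.1) (he a haF) (by
          rw [Finset.sum_coe_sort F' (fun j => e j * t j)]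
          rw [Finset.sum_insert ha] at hrel
          simpa only [mul_comm (e _)] using hrel)
      have := hind (Pi.single a 1) (by
        rw [Finset.sum_eq_single a]
        · simpa using hea
        · intro b _ hb; simp [hb]
        · simp) a haF
      simp at this
    push Not at hcomb
    obtain ⟨u, hu, hta⟩ := hcomb
    let v : J → R := fun j => if h : j ∈ F' ∧ N - dg j ≤ N - dg a
      then homogeneousComponent ((N - dg a) - (N - dg j)) (u ⟨j, h.1⟩) else 0
    have hv : ∀ j, v j ∈ GLin.invariants k A R := fun j => by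
      simp only [v]
      split_ifs
      exacts [comp_mem_invariants hlin (hu _) _, zero_mem _]
    have hta' : t a = ∑ j ∈ F', v j * t j := by
      conv_lhs => rw [← homogeneousComponent_of_mem ((hth a haF).1) |>.trans (if_pos rfl), hta]
      rw [map_sum, ← Finset.sum_coe_sort F' (fun j => v j * t j)]
      refine Finset.sum_congr rfl fun j _ => ?_
      rw [comp_mul (hth _ (Finset.mem_insert_of_mem j.2)).1]
      by_cases h : N - dg j.1 ≤ N - dg a
      · rw [if_pos h]
        simp only [v]
        rw [dif_pos ⟨j.2, h⟩]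
      · rw [if_neg h]
        simp only [v]
        rw [dif_neg (fun h' => h h'.2), zero_mul]
    let z : J → R := fun j => if N < dg a then e j else e j + v j * e a
    have hrel' : ∑ j ∈ F', t j * z j = 0 := by
      rw [Finset.sum_insert ha] at hrel
      simp only [z]
      split_ifs with hN
      · rw [(hth a haF).2 hN, zero_mul, zero_add] at hrel
        exact hrel
      · rw [hta', Finset.sum_mul] at hrel
        rw [← hrel, ← Finset.sum_add_distrib]
        exact Finset.sum_congr rfl fun j _ => by ring
    let z' : J → R := fun j => if N < dg j then e j else z j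
    have hz' : ∀ j ∈ F', t j * z' j = t j * z j := fun j hj => by
      simp only [z']
      split_ifs with h
      · simp [(hth j (Finset.mem_insert_of_mem hj)).2 h]
      · rfl
    have hzh : ∀ j ∈ F', (z' j).IsHomogeneous (dg j) := by
      intro j hj
      simp only [z', z]
      split_ifs with h h'
      · exact he j (Finset.mem_insert_of_mem hj)
      · exact he j (Finset.mem_insert_of_mem hj)
      · refine (he j (Finset.mem_insert_of_mem hj)).add ?_
        simp only [v]
        split_ifs with h2
        · have := (homogeneousComponent_isHomogeneous ((N - dg a) - (N - dg j)) (u ⟨j, h2.1⟩)).mul (he a haF)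
          rwa [show (N - dg a) - (N - dg j) + dg a = dg j by omega] at this
        · rw [zero_mul]; exact isHomogeneous_zero ι k _
    have hindz : ∀ c : J → k, ∑ j ∈ F', c j • z' j ∈ posIdeal k A ι → ∀ j ∈ F', c j = 0 := by
      intro c hc
      let b : J → k := fun j => if N < dg j ∨ N < dg a then 0 else coeff 0 (v j)
      have hzj : ∀ j ∈ F', z' j - (e j + b j • e a) ∈ posIdeal k A ι := by
        intro j hj
        simp only [z', z, b]
        split_ifs <;> (try simp only [zero_smul, add_zero, sub_self]) <;> (try exact zero_mem _) <;> (try omega)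
        rw [add_sub_add_left_eq_sub, smul_eq_C_mul, ← sub_mul]
        refine Ideal.mul_mem_right _ _ ?_
        simp only [v]
        split_ifs with h2
        · rcases Nat.eq_zero_or_pos ((N - dg a) - (N - dg j)) with h0 | h0
          · rw [h0, homogeneousComponent_zero]; simp
          · have hm := comp_mem_invariants hlin (hu ⟨j, h2.1⟩) ((N - dg a) - (N - dg j))
            have hh := homogeneousComponent_isHomogeneous ((N - dg a) - (N - dg j)) (u ⟨j, h2.1⟩)
            rw [hh.coeff_eq_zero (by simp; omega), map_zero, sub_zero]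
            exact mem_posIdeal hm h0 hh
        · simp
      have h1 : ∑ j ∈ F', c j • (e j + b j • e a) ∈ posIdeal k A ι := by
        have h2 : ∑ j ∈ F', c j • (z' j - (e j + b j • e a)) ∈ posIdeal k A ι :=
          Ideal.sum_mem _ fun j hj => Submodule.smul_of_tower_mem _ (c j) (hzj j hj)
        simp only [smul_sub, Finset.sum_sub_distrib] at h2
        have := sub_mem hc h2
        rwa [sub_sub_cancel] at this
      intro j hj
      have := hind (fun i => if i = a then ∑ l ∈ F', c l * b l else c i) (by
        rw [Finset.sum_insert ha, if_pos rfl]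
        convert! h1 using 1
        simp only [smul_add, smul_smul, Finset.sum_add_distrib, ← Finset.sum_smul]
        rw [add_comm]
        exact congrArg (· + _) (Finset.sum_congr rfl fun i hi => by rw [if_neg (fun (e : i = a) => ha (e ▸ hi))])) j
        (Finset.mem_insert_of_mem hj)
      rwa [if_neg (fun (e : j = a) => ha (e ▸ hj))] at this
    have hall := ih F' hF' z' dg hzh hindz N t (fun j hj => hti j (Finset.mem_insert_of_mem hj))
      (fun j hj => hth j (Finset.mem_insert_of_mem hj)) (by rw [Finset.sum_congr rfl hz']; exact hrel')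
    intro j hj
    rcases Finset.mem_insert.1 hj with rfl | hj
    · rw [hta']
      exact Finset.sum_eq_zero fun i hi => by rw [hall i hi, mul_zero]
    · exact hall j hj

/-- The polynomial ring is free over the invariants. -/
theorem free : Module.Free (GLin.invariants k A R) R := by
  classical
  let P := (posIdeal k A ι).restrictScalars k
  let mon : (ι →₀ ℕ) → R ⧸ P := fun m => P.mkQ (monomial m (1 : k))
  have hspan : ⊤ ≤ Submodule.span k (Set.range mon) := by
    rintro x -
    obtain ⟨p, rfl⟩ := P.mkQ_surjective x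
    rw [p.as_sum, map_sum]
    refine Submodule.sum_mem _ fun m _ => ?_
    rw [show monomial m (coeff m p) = coeff m p • monomial m (1 : k) by rw [smul_monomial, smul_eq_mul, mul_one],
      map_smul]
    exact Submodule.smul_mem _ _ (Submodule.subset_span ⟨m, rfl⟩)
  obtain ⟨s, hs, hsp, hli⟩ := exists_linearIndependent k (Set.range mon)
  choose f hf using fun x : s => hs x.2
  let e : s → R := fun x => monomial (f x) 1
  have he : ∀ x, (e x).IsHomogeneous (f x).degree := fun x => isHomogeneous_monomial 1 rfl
  have hmk : ∀ x : s, P.mkQ (e x) = x.1 := hf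
  have hind : ∀ (F : Finset s) (c : s → k), ∑ j ∈ F, c j • e j ∈ posIdeal k A ι → ∀ j ∈ F, c j = 0 := by
    intro F c hc
    have h0 : P.mkQ (∑ j ∈ F, c j • e j) = 0 := (Submodule.Quotient.mk_eq_zero P).2 hc
    simp only [map_sum, map_smul, hmk] at h0
    exact linearIndependent_iff'.1 hli F c h0
  have hspanS : ∀ d (p : R), p.IsHomogeneous d → p ∈ Submodule.span (GLin.invariants k A R) (Set.range e) := by
    intro d
    induction d using Nat.strong_induction_on with
    | _ d ih =>
      intro p hp
      have hx : P.mkQ p ∈ Submodule.span k (Set.range fun x : s => P.mkQ (e x)) := by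
        rw [show (Set.range fun x : s => P.mkQ (e x)) = s by
          simp only [hmk]; exact Subtype.range_coe, hsp]
        exact hspan Submodule.mem_top
      obtain ⟨c, hc⟩ := (Finsupp.mem_span_range_iff_exists_finsupp).1 hx
      have hw : p - c.sum (fun x a => a • e x) ∈ posIdeal k A ι := by
        refine (Submodule.Quotient.eq P).1 ?_
        change P.mkQ p = P.mkQ _
        rw [← hc, map_finsuppSum]
        simp only [map_smul]
      rw [← homogeneousComponent_of_mem hp |>.trans (if_pos rfl),
        ← sub_add_cancel p (c.sum fun x a => a • e x), map_add]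
      refine add_mem ?_ ?_
      · generalize p - c.sum (fun x a => a • e x) = w at hw ⊢
        suffices h : ∀ r : R, homogeneousComponent d (r * w) ∈ Submodule.span (GLin.invariants k A R) (Set.range e) by
          simpa using h 1
        induction hw using Submodule.span_induction with
        | mem y hy =>
          obtain ⟨hyi, e', he', hyh⟩ := hy
          intro r
          rw [comp_mul hyh]
          split_ifs with hle
          · rw [mul_comm]
            exact Submodule.smul_mem _ (⟨y, hyi⟩ : GLin.invariants k A R)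
              (ih (d - e') (by omega) _ (homogeneousComponent_isHomogeneous _ _))
          · exact zero_mem _
        | zero => intro r; simp
        | add x y _ _ hx hy => intro r; rw [mul_add, map_add]; exact add_mem (hx r) (hy r)
        | smul c x _ hx => intro r; rw [smul_eq_mul, ← mul_assoc]; exact hx _
      · rw [Finsupp.sum, map_sum]
        refine Submodule.sum_mem _ fun x _ => ?_
        rw [map_smul, homogeneousComponent_of_mem (he x)]
        refine Submodule.smul_of_tower_mem _ _ ?_
        split_ifs
        exacts [Submodule.subset_span ⟨x, rfl⟩, zero_mem _]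
  have htop : ⊤ ≤ Submodule.span (GLin.invariants k A R) (Set.range e) := by
    intro p _
    rw [← sum_homogeneousComponent p]
    exact Submodule.sum_mem _ fun d _ => hspanS d _ (homogeneousComponent_isHomogeneous d p)
  have hlind : LinearIndependent (GLin.invariants k A R) e := by
    rw [linearIndependent_iff']
    intro F t ht j hj
    refine Subtype.ext ?_
    have hrel : ∑ x ∈ F, (t x : R) * e x = 0 := ht
    have hN : ∀ N : ℕ, ∀ x ∈ F, (if (f x).degree ≤ N then homogeneousComponent (N - (f x).degree) (t x : R) else 0) = 0 := by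
      intro N
      refine indep_aux hlin hG hsub hgen F.card F rfl e (fun x => (f x).degree) (fun x _ => he x) (hind F) N
        (fun x => if (f x).degree ≤ N then homogeneousComponent (N - (f x).degree) (t x : R) else 0)
        (fun x _ => by
          split_ifs
          exacts [comp_mem_invariants hlin (t x).2 _, zero_mem _])
        (fun x _ => ⟨by
          split_ifs
          exacts [homogeneousComponent_isHomogeneous _ _, isHomogeneous_zero ι k _],
          fun h => if_neg (by omega)⟩) ?_
      have h := congrArg (homogeneousComponent N) hrel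
      rw [map_sum, map_zero] at h
      simp only [comp_mul (he _)] at h
      simpa only [ite_mul, zero_mul] using h
    rw [ZeroMemClass.coe_zero, ← sum_homogeneousComponent (t j : R)]
    refine Finset.sum_eq_zero fun d _ => ?_
    have := hN (d + (f j).degree) j hj
    rwa [if_pos (by omega), Nat.add_sub_cancel] at this
  exact Module.Free.of_basis (Module.Basis.mk hlind htop)

end Key

end

end Groth.Agent.H66.CST
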