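import Groth.Agent.H66.CST.Fixed
import Groth.Agent.H66.CST.Fixer
import Groth.Agent.H60.AlgComod
import Mathlib.RingTheory.MvPolynomial.Homogeneous
import Mathlib.LinearAlgebra.Dimension.Finrank

/-!
Linearisation of an action of a linearly reductive finite group scheme at a fixed rational point.
-/

set_option autoImplicit false
set_option linter.unusedSectionVars false
universe u

open TensorProduct MvPolynomial
open Groth.Agent.Lib.Comod.Basic

namespace Groth.Agent.H66.CST

noncomputable section

variable {k : Type u} [Field k] {A : Type u} [CommRing A] [HopfAlgebra k A]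

section Poly

variable {V : Type u} [AddCommGroup V] [Module k V] [HopfRep.Comod k A V] {ι : Type u}
variable (b : Module.Basis ι k V)

/-- The linear forms. -/
def polyLin : V →ₗ[k] MvPolynomial ι k := b.constr k MvPolynomial.X

theorem polyLin_basis (i : ι) : polyLin b (b i) = X i := b.constr_basis k _ i

theorem polyLin_injective : Function.Injective (polyLin b) := by
  classical
  refine Function.LeftInverse.injective (g := fun p => ∑ᶠ i, coeff (Finsupp.single i 1) p • b i) fun v => ?_
  change ∑ᶠ i, coeff (Finsupp.single i 1) (polyLin b v) • b i = v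
  have e : ∀ i, coeff (Finsupp.single i 1) (polyLin b v) = b.repr v i := by
    intro i
    have : (lcoeff k (Finsupp.single i 1)) ∘ₗ polyLin b = b.coord i := by
      refine b.ext fun j => ?_
      simp [polyLin_basis, coeff_X', Finsupp.single_apply, Finsupp.single_left_inj]
    exact LinearMap.congr_fun this v
  simp only [e]
  rw [finsum_eq_sum_of_support_subset (s := (b.repr v).support) _ (fun i hi => by
    simp only [Finset.mem_coe, Finsupp.mem_support_iff]; intro h; exact hi (by simp [h]))]
  exact b.linearCombination_repr v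

theorem range_polyLin : LinearMap.range (polyLin b) = GLin.linForms k ι := by
  rw [polyLin, Module.Basis.constr_range, GLin.linForms, homogeneousSubmodule_one_eq_span_X]

/-- The coaction on the polynomial ring. -/
def polyCoact : MvPolynomial ι k →ₐ[k] MvPolynomial ι k ⊗[k] A :=
  aeval fun j => (polyLin b).rTensor A (HopfRep.Comod.coact (k := k) (A := A) (b j))

theorem polyCoact_lin : (polyCoact (A := A) b).toLinearMap ∘ₗ polyLin b =
    (polyLin b).rTensor A ∘ₗ HopfRep.Comod.coact (k := k) (A := A) := by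
  refine b.ext fun j => ?_
  simp [polyCoact, polyLin_basis]

theorem adjoin_polyLin : Algebra.adjoin k (Set.range (polyLin b)) = ⊤ := by
  refine eq_top_iff.2 (le_trans (adjoin_range_X (R := k) (σ := ι)).ge (Algebra.adjoin_mono ?_))
  rintro _ ⟨i, rfl⟩
  exact ⟨b i, polyLin_basis b i⟩

/-- The comodule structure on the polynomial ring. -/
@[reducible] def polyComod : HopfRep.Comod k A (MvPolynomial ι k) where
  coact := (polyCoact (A := A) b).toLinearMap
  coassoc := H60.AlgComod.coassoc_of_algHom (polyCoact (A := A) b) _ (adjoin_polyLin b) fun z hz => by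
    rcases hz with ⟨v, rfl⟩
    exact H60.AlgComod.natural_coassoc (polyLin b) _ (polyCoact_lin b) v
  counit_comp := H60.AlgComod.counit_of_algHom (polyCoact (A := A) b) _ (adjoin_polyLin b) fun z hz => by
    rcases hz with ⟨v, rfl⟩
    exact H60.AlgComod.natural_counit (polyLin b) _ (polyCoact_lin b) v

theorem isCoactAlg_polyComod :
    letI := polyComod (A := A) b
    GLin.IsCoactAlg k A (MvPolynomial ι k) :=
  letI := polyComod (A := A) b
  ⟨map_one (polyCoact (A := A) b), map_mul (polyCoact (A := A) b)⟩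

theorem isComodHom_polyLin :
    letI := polyComod (A := A) b
    Hoch.IsComodHom A (polyLin b) := polyCoact_lin b

theorem isLinear_polyComod [Fintype ι] :
    letI := polyComod (A := A) b
    haveI := isCoactAlg_polyComod (A := A) b
    GLin.IsLinear k A ι := by
  letI := polyComod (A := A) b
  haveI := isCoactAlg_polyComod (A := A) b
  intro i
  refine ⟨fun j => TensorProduct.lid k A ((b.coord j).rTensor A (HopfRep.Comod.coact (k := k) (A := A) (b i))), ?_⟩
  change polyCoact b (X i) = _
  rw [polyCoact, aeval_X]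
  induction HopfRep.Comod.coact (k := k) (A := A) (b i) using TensorProduct.induction_on with
  | zero => simp
  | add y z hy hz => simp only [map_add, TensorProduct.tmul_add, Finset.sum_add_distrib, hy, hz]
  | tmul v a =>
    simp only [LinearMap.rTensor_tmul, TensorProduct.lid_tmul, TensorProduct.tmul_smul]
    conv_lhs => rw [← b.sum_repr v, map_sum, TensorProduct.sum_tmul]
    refine Finset.sum_congr rfl fun j _ => ?_
    rw [map_smul, polyLin_basis, TensorProduct.smul_tmul']
    rfl

/-- Linear forms invariant under a closed subscheme. -/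
theorem linForms_inf_quotInvariants (I : Ideal A) :
    letI := polyComod (A := A) b
    GLin.linForms k ι ⊓ GLin.quotInvariants k A (MvPolynomial ι k) I =
      (GLin.quotInvariants k A V I).map (polyLin b) := by
  letI := polyComod (A := A) b
  refine le_antisymm ?_ ?_
  · rintro p ⟨hp, hp'⟩
    rw [SetLike.mem_coe, ← range_polyLin b] at hp
    obtain ⟨v, rfl⟩ := hp
    refine ⟨v, (mem_quotInvariants_iff I v).2 fun φ => polyLin_injective b ?_, rfl⟩
    rw [map_smul, map_dact (isComodHom_polyLin b)]
    exact (mem_quotInvariants_iff I _).1 hp' φ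
  · rintro _ ⟨v, hv, rfl⟩
    refine ⟨range_polyLin b ▸ LinearMap.mem_range_self _ v, (mem_quotInvariants_iff I _).2 fun φ => ?_⟩
    rw [← map_dact (isComodHom_polyLin b), (mem_quotInvariants_iff I v).1 hv φ, map_smul]

end Poly

section Point

variable {R : Type u} [CommRing R] [Algebra k R] [HopfRep.Comod k A R] [GLin.IsCoactAlg k A R]
variable (x : R →ₐ[k] k) (hx : GLin.IsFixedPt k A x)

include hx in
theorem apply_dact (φ : A →ₗ[k] k) (f : R) : x (dact R φ f) = φ 1 * x f := by
  have h := congrArg φ (AlgHom.congr_fun hx f)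
  simp only [GLin.orbitHom, AlgHom.comp_apply, AlgEquiv.toAlgHom_eq_coe, AlgHom.coe_coe,
    GLin.coactAlgHom_apply, Algebra.ofId_apply] at h
  rw [Algebra.algebraMap_eq_smul_one, map_smul, smul_eq_mul, mul_comm] at h
  rw [← h, dact_apply]
  induction HopfRep.Comod.coact (k := k) (A := A) f using TensorProduct.induction_on with
  | zero => simp
  | add y z hy hz => simp only [map_add, hy, hz]
  | tmul r a => simp [mul_comm]

include hx in
theorem stable_ker : Stable k A (RingHom.ker x) :=
  stable_iff.2 fun φ f hf => by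
    rw [RingHom.mem_ker] at hf ⊢
    rw [apply_dact x hx, hf, mul_zero]

omit [GLin.IsCoactAlg k A R] in
theorem isSubcomod_of_dact (I : Ideal R) (h : ∀ (φ : A →ₗ[k] k), ∀ f ∈ I, dact R φ f ∈ I) :
    HopfRep.IsSubcomod (k := k) (A := A) (I.restrictScalars k) :=
  (isSubcomod_iff _).2 fun φ f hf => h φ f hf

omit [HopfRep.Comod k A R] [GLin.IsCoactAlg k A R] in
theorem finite_cotSpace [Algebra.FiniteType k R] : Module.Finite k ↥(GLin.cotSpace k R x) := by
  classical
  haveI : IsNoetherianRing R := Algebra.FiniteType.isNoetherianRing k R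
  obtain ⟨G, hG⟩ := IsNoetherian.noetherian (RingHom.ker x : Ideal R)
  let q := Ideal.Quotient.mkₐ k (RingHom.ker x ^ 2)
  haveI : Module.Finite k ↥(Submodule.span k (↑(G.image q) : Set (R ⧸ RingHom.ker x ^ 2))) :=
    FiniteDimensional.span_finset k _
  refine Submodule.finiteDimensional_of_le (S₂ := Submodule.span k (↑(G.image q) : Set (R ⧸ RingHom.ker x ^ 2))) ?_
  rintro _ ⟨f, hf, rfl⟩
  have hf' : f ∈ Ideal.span (G : Set R) := by rw [Ideal.span, hG]; exact hf
  clear hf
  induction hf' using Submodule.span_induction with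
  | mem y hy => exact Submodule.subset_span (Finset.mem_coe.2 (Finset.mem_image_of_mem _ hy))
  | zero => simp
  | add y z _ _ hy hz => rw [map_add]; exact add_mem hy hz
  | smul c y hy' hy =>
    have e : q (c • y) = x c • q y := by
      rw [← map_smul]
      refine Ideal.Quotient.eq.2 ?_
      rw [smul_eq_mul, Algebra.smul_def, ← sub_mul, pow_two]
      refine Ideal.mul_mem_mul ?_ ?_
      · rw [RingHom.mem_ker, map_sub, AlgHom.commutes]; simp
      · rw [← hG]; exact hy'
    change q (c • y) ∈ _
    rw [e]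
    exact Submodule.smul_mem _ _ hy

include hx in
/-- An equivariant linear lift of the cotangent space. -/
theorem exists_lift [Algebra.FiniteType k R] (hG : HopfRep.IsLinearlyReductive k A) :
    ∃ V : Submodule k R, HopfRep.IsSubcomod (k := k) (A := A) V ∧ V ≤ (RingHom.ker x).restrictScalars k ∧
      (∀ v ∈ V, v ∈ RingHom.ker x ^ 2 → v = 0) ∧
      ∀ f ∈ RingHom.ker x, ∃ v ∈ V, f - v ∈ RingHom.ker x ^ 2 := by
  have hM := stable_ker x hx
  obtain ⟨C, hC, hc⟩ := Lib.Comod.Reynolds.exists_isCompl hG
    (isSubcomod_of_dact (A := A) (RingHom.ker x ^ 2) (stable_iff.1 (stable_pow hM 2)))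
  refine ⟨C ⊓ (RingHom.ker x).restrictScalars k, isSubcomod_inf hC (isSubcomod_of_dact _ (stable_iff.1 hM)),
    inf_le_right, fun v hv hv2 => ?_, fun f hf => ?_⟩
  · exact (Submodule.mem_bot k).1 (hc.inf_eq_bot ▸ ⟨hv2, hv.1⟩)
  · have hf' : f ∈ (RingHom.ker x ^ 2).restrictScalars k ⊔ C := hc.sup_eq_top ▸ Submodule.mem_top
    obtain ⟨w, hw, v, hv, rfl⟩ := Submodule.mem_sup.1 hf'
    refine ⟨v, ⟨hv, ?_⟩, by simpa using hw⟩
    have hwM : w ∈ RingHom.ker x := Ideal.pow_le_self two_ne_zero hw
    simpa using sub_mem hf hwM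

variable (V : Submodule k R) (hVM : V ≤ (RingHom.ker x).restrictScalars k)
    (hV2 : ∀ v ∈ V, v ∈ RingHom.ker x ^ 2 → v = 0)
    (hVs : ∀ f ∈ RingHom.ker x, ∃ v ∈ V, f - v ∈ RingHom.ker x ^ 2)

/-- The projection to the cotangent space. -/
abbrev toCot : V →ₗ[k] R ⧸ RingHom.ker x ^ 2 :=
  (Ideal.Quotient.mkₐ k (RingHom.ker x ^ 2)).toLinearMap ∘ₗ V.subtype

omit [HopfRep.Comod k A R] [GLin.IsCoactAlg k A R] in
include hV2 in
theorem toCot_injective : Function.Injective (toCot x V) := by
  rw [← LinearMap.ker_eq_bot, Submodule.eq_bot_iff]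
  intro v hv
  exact Subtype.ext (hV2 v v.2 (Ideal.Quotient.eq_zero_iff_mem.1 hv))

omit [HopfRep.Comod k A R] [GLin.IsCoactAlg k A R] in
include hVM hVs in
theorem range_toCot : LinearMap.range (toCot x V) = GLin.cotSpace k R x := by
  refine le_antisymm ?_ ?_
  · rintro _ ⟨v, rfl⟩
    exact ⟨v, hVM v.2, rfl⟩
  · rintro _ ⟨f, hf, rfl⟩
    obtain ⟨v, hv, hfv⟩ := hVs f hf
    exact ⟨⟨v, hv⟩, (Ideal.Quotient.eq.2 hfv).symm⟩

variable (hV : HopfRep.IsSubcomod (k := k) (A := A) V)

include hx hVM hV2 hVs in
theorem cotFixed_eq (I : Ideal A) :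
    letI := subComod V hV
    GLin.cotFixed k A R x I = (GLin.quotInvariants k A V I).map (toCot x V) := by
  letI := subComod V hV
  let q := Ideal.Quotient.mkₐ k (RingHom.ker x ^ 2)
  have hM2 := stable_iff.1 (stable_pow (stable_ker x hx) 2)
  have hlift : ∀ f : R, f ∈ GLin.cotFixedLift k A R x I ↔ ∀ φ : (A ⧸ I) →ₗ[k] k,
      q (dact R (φ.comp (Ideal.Quotient.mkₐ k I).toLinearMap) f) = φ 1 • q f := by
    intro f
    have e : ∀ (φ : (A ⧸ I) →ₗ[k] k) (z : R ⊗[k] A),
        contract (R ⧸ RingHom.ker x ^ 2) φ (TensorProduct.map q.toLinearMap (Ideal.Quotient.mkₐ k I).toLinearMap z) =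
          q (contract R (φ.comp (Ideal.Quotient.mkₐ k I).toLinearMap) z) := by
      intro φ z
      induction z using TensorProduct.induction_on with
      | zero => simp
      | add y z hy hz => simp only [map_add, hy, hz]
      | tmul r a => simp
    change TensorProduct.map q.toLinearMap _ _ = q f ⊗ₜ[k] (1 : A ⧸ I) ↔ _
    constructor
    · intro h φ
      rw [dact_apply, ← e, h, contract_tmul]
    · intro h
      refine ext_contract fun φ => ?_
      rw [e, contract_tmul, ← dact_apply, h]
  refine le_antisymm ?_ ?_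
  · rintro _ ⟨f, ⟨hf, hf'⟩, rfl⟩
    obtain ⟨v, hv, hfv⟩ := hVs f hf
    refine ⟨⟨v, hv⟩, (mem_quotInvariants_iff I _).2 fun φ => toCot_injective x V hV2 ?_, (Ideal.Quotient.eq.2 hfv).symm⟩
    have h1 := (hlift f).1 hf' φ
    have h2 : q (dact R (φ.comp (Ideal.Quotient.mkₐ k I).toLinearMap) f) =
        q (dact R (φ.comp (Ideal.Quotient.mkₐ k I).toLinearMap) v) := by
      refine Ideal.Quotient.eq.2 ?_
      rw [← map_sub]
      exact hM2 _ _ hfv
    have h3 : q f = q v := Ideal.Quotient.eq.2 hfv
    rw [map_smul, LinearMap.comp_apply, map_dact (isComodHom_subtype hV)]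
    exact h2.symm.trans (h1.trans (congrArg (φ 1 • ·) h3))
  · rintro _ ⟨v, hv, rfl⟩
    refine ⟨v, ⟨hVM v.2, (hlift _).2 fun φ => ?_⟩, rfl⟩
    have h := map_dact (isComodHom_subtype hV) (φ.comp (Ideal.Quotient.mkₐ k I).toLinearMap) v
    rw [(mem_quotInvariants_iff I v).1 hv φ, map_smul] at h
    rw [← map_smul]
    exact congrArg q h.symm

include hx hVM hV2 hVs in
theorem isPseudoReflAt_iff {ι : Type u} (b : Module.Basis ι k V) (I : Ideal A) :
    letI := subComod V hV
    letI := polyComod (A := A) b
    GLin.IsPseudoRefl k A ι I ↔ GLin.IsPseudoReflAt k A R x I := by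
  letI := subComod V hV
  letI := polyComod (A := A) b
  have h1 : Module.finrank k ↥(GLin.linForms k ι ⊓ GLin.quotInvariants k A (MvPolynomial ι k) I) =
      Module.finrank k ↥(GLin.cotFixed k A R x I) := by
    rw [linForms_inf_quotInvariants, cotFixed_eq x hx V hVM hV2 hVs hV]
    exact ((Submodule.equivMapOfInjective _ (polyLin_injective b) _).symm.trans
      (Submodule.equivMapOfInjective _ (toCot_injective x V hV2) _)).finrank_eq
  have h2 : Module.finrank k ↥(GLin.linForms k ι) = Module.finrank k ↥(GLin.cotSpace k R x) := by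
    rw [← range_polyLin b, ← range_toCot x V hVM hVs, LinearMap.finrank_range_of_inj (polyLin_injective b),
      LinearMap.finrank_range_of_inj (toCot_injective x V hV2)]
  unfold GLin.IsPseudoRefl GLin.IsPseudoReflAt
  rw [h1, h2]

end Point

end

end Groth.Agent.H66.CST
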