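import Groth.Agent.H66.CST.Free
import Groth.Agent.Lib.Regular.Descent
import Groth.Agent.Lib.Henselian.NoetherianCriterion
import Mathlib.RingTheory.RegularLocalRing.Polynomial
import Mathlib.RingTheory.KrullDimension.Polynomial
import Mathlib.RingTheory.KrullDimension.NonZeroDivisors
import Mathlib.RingTheory.KrullDimension.Field
import Mathlib.RingTheory.Localization.AtPrime.Basic
import Mathlib.RingTheory.Finiteness.Ideal

/-!
A graded subalgebra of a polynomial ring over which the polynomial ring is free is polynomial.
-/

set_option autoImplicit false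
set_option linter.unusedSectionVars false
universe u v

open MvPolynomial IsLocalRing

namespace Groth.Agent.H66.CST

noncomputable section

variable {k : Type u} [Field k] {ι : Type u} [Fintype ι]

local notation "R" => MvPolynomial ι k

/-- Flat descent of regularity at the irrelevant ideal. -/
theorem isRegularLocalRing_aug (S : Subalgebra k R) [Module.Free S R] [IsNoetherianRing S]
    [(RingHom.ker ((constantCoeff : R →+* k).comp S.val.toRingHom)).IsPrime] :
    IsRegularLocalRing (Localization.AtPrime (RingHom.ker ((constantCoeff : R →+* k).comp S.val.toRingHom))) := by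
  set m := RingHom.ker ((constantCoeff : R →+* k).comp S.val.toRingHom)
  let q := RingHom.ker (constantCoeff : R →+* k)
  haveI : q.IsPrime := RingHom.ker_isPrime _
  haveI : q.LiesOver m := ⟨rfl⟩
  letI : Algebra (Localization.AtPrime m) (Localization.AtPrime q) := Localization.AtPrime.algebraOfLiesOver m q
  haveI : IsLocalHom (algebraMap (Localization.AtPrime m) (Localization.AtPrime q)) := by
    rw [Localization.AtPrime.IsLiesOverAlgebra.algebraMap_eq]
    exact Localization.isLocalHom_localRingHom _ _ _ _
  haveI : IsNoetherianRing (Localization.AtPrime m) := IsLocalization.isNoetherianRing m.primeCompl _ inferInstance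
  haveI : IsRegularLocalRing (Localization.AtPrime q) := IsRegularRing.isRegularLocalRing_localization q
  exact Lib.Regular.Descent.isRegularLocalRing_of_flat (Localization.AtPrime q)

variable (S : Subalgebra k (MvPolynomial ι k))

/-- The ideal of the elements of `S` without constant term. -/
abbrev aug : Ideal ↥S := RingHom.ker (((constantCoeff : R →+* k).comp S.val.toRingHom : ↥S →+* k))

theorem mem_aug {p : S} : p ∈ aug S ↔ constantCoeff (p : R) = 0 := RingHom.mem_ker

theorem aug_isMaximal : (aug S).IsMaximal :=
  RingHom.ker_isMaximal_of_surjective _ fun c => ⟨algebraMap k S c, by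
    change constantCoeff (algebraMap k R c) = c
    simp [MvPolynomial.algebraMap_eq]⟩

theorem comp_mul' {a f : R} {e : ℕ} (hf : f.IsHomogeneous e) (d : ℕ) :
    homogeneousComponent d (a * f) = if e ≤ d then homogeneousComponent (d - e) a * f else 0 := by
  conv_lhs => rw [← sum_homogeneousComponent a, Finset.sum_mul, map_sum]
  simp only [homogeneousComponent_of_mem ((homogeneousComponent_isHomogeneous _ a).mul hf)]
  by_cases hed : e ≤ d
  · rw [if_pos hed, Finset.sum_eq_single (d - e)]
    · rw [if_pos (by omega)]
    · intro i _ hi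
      rw [if_neg (by omega)]
    · intro hi
      rw [homogeneousComponent_eq_zero _ _ (by simp at hi; omega)]
      simp
  · rw [if_neg hed]
    exact Finset.sum_eq_zero fun i _ => if_neg (by omega)

variable (hS : ∀ p : MvPolynomial ι k, p ∈ S → ∀ d : ℕ, homogeneousComponent d p ∈ S)
include hS

/-- Minimal homogeneous generators. -/
theorem exists_gens [IsNoetherianRing S] : ∃ (r : ℕ) (f : Fin r → S) (dg : Fin r → ℕ),
    (∀ i, 0 < dg i ∧ ((f i : S) : R).IsHomogeneous (dg i)) ∧ Algebra.adjoin k (Set.range f) = ⊤ ∧
      ∀ c : Fin r → k, ∑ i, c i • f i ∈ aug S ^ 2 → c = 0 := by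
  classical
  let 𝒢 : Set S := {s | ∃ d, 0 < d ∧ (s : R).IsHomogeneous d}
  have hgen : aug S = Ideal.span 𝒢 := by
    refine le_antisymm (fun p hp => ?_) (Ideal.span_le.2 ?_)
    · have e : p = ∑ d ∈ Finset.range ((p : R).totalDegree + 1), (⟨homogeneousComponent d (p : R), hS _ p.2 d⟩ : S) :=
        Subtype.ext (by rw [AddSubmonoidClass.coe_finsetSum]; exact (sum_homogeneousComponent (p : R)).symm)
      rw [e]
      refine Ideal.sum_mem _ fun d _ => ?_
      rcases Nat.eq_zero_or_pos d with rfl | hd
      · convert! zero_mem (Ideal.span 𝒢)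
        change homogeneousComponent 0 (p : R) = 0
        rw [homogeneousComponent_zero]
        rw [mem_aug, constantCoeff_eq] at hp
        rw [hp, map_zero]
      · exact Ideal.subset_span ⟨d, hd, homogeneousComponent_isHomogeneous d _⟩
    · rintro s ⟨d, hd, hs⟩
      exact (mem_aug S).2 (hs.coeff_eq_zero (by simp; omega))
  obtain ⟨F₀, hF₀, hF₀s⟩ := (Submodule.fg_span_iff_fg_span_finset_subset 𝒢).1 (IsNoetherian.noetherian (Submodule.span ↥S 𝒢))
  have hex : ∃ r, ∃ F : Finset S, F.card = r ∧ ↑F ⊆ 𝒢 ∧ Ideal.span (F : Set S) = aug S :=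
    ⟨_, F₀, rfl, hF₀, hF₀s.symm.trans hgen.symm⟩
  obtain ⟨F, hFc, hFg, hFs⟩ := Nat.find_spec hex
  let f : Fin F.card → S := fun i => (F.equivFin.symm i : S)
  choose dg hdg hdgh using fun i : Fin F.card => hFg (F.equivFin.symm i).2
  have hrange : Set.range f = (F : Set S) := by
    ext x
    exact ⟨fun ⟨i, hi⟩ => hi ▸ (F.equivFin.symm i).2, fun hx => ⟨F.equivFin ⟨x, hx⟩, by simp [f]⟩⟩
  have hcomb : ∀ p ∈ aug S, ∀ d, ∃ a : Fin F.card → S, homogeneousComponent d ((p : S) : R) =
      ∑ i, (if dg i ≤ d then homogeneousComponent (d - dg i) (a i : R) * (f i : R) else 0) := by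
    intro p hp d
    have hp' : p ∈ Submodule.span S (Set.range f) := by
      rw [hrange]
      exact hFs.ge hp
    obtain ⟨a, ha⟩ := (Submodule.mem_span_range_iff_exists_fun S).1 hp'
    refine ⟨a, ?_⟩
    rw [← ha, AddSubmonoidClass.coe_finsetSum, map_sum]
    exact Finset.sum_congr rfl fun i _ => comp_mul' (hdgh i) d
  refine ⟨F.card, f, dg, fun i => ⟨hdg i, hdgh i⟩, ?_, fun c hc => ?_⟩
  · have key : ∀ d, ∀ p : S, (p : R).IsHomogeneous d → p ∈ Algebra.adjoin k (Set.range f) := by
      intro d
      induction d using Nat.strong_induction_on with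
      | _ d ih =>
        intro p hp
        rcases Nat.eq_zero_or_pos d with rfl | hd
        · have : p = algebraMap k S (coeff 0 (p : R)) := Subtype.ext (by
            change (p : R) = algebraMap k R _
            rw [MvPolynomial.algebraMap_eq, ← homogeneousComponent_zero, homogeneousComponent_of_mem hp, if_pos rfl])
          rw [this]
          exact Subalgebra.algebraMap_mem _ _
        obtain ⟨a, ha⟩ := hcomb p ((mem_aug S).2 (hp.coeff_eq_zero (by simp; omega))) d
        rw [homogeneousComponent_of_mem hp, if_pos rfl] at ha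
        have : p = ∑ i, if dg i ≤ d then (⟨homogeneousComponent (d - dg i) (a i : R), hS _ (a i).2 _⟩ : S) * f i else 0 := by
          refine Subtype.ext ?_
          rw [AddSubmonoidClass.coe_finsetSum, ha]
          refine Finset.sum_congr rfl fun i _ => ?_
          split_ifs <;> rfl
        rw [this]
        refine Subalgebra.sum_mem _ fun i _ => ?_
        split_ifs with h
        · refine mul_mem (ih (d - dg i) (by have := hdg i; omega) _ ?_) (Algebra.subset_adjoin ⟨i, rfl⟩)
          exact homogeneousComponent_isHomogeneous _ _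
        · exact zero_mem _
    refine eq_top_iff.2 fun p _ => ?_
    have e : p = ∑ d ∈ Finset.range ((p : R).totalDegree + 1), (⟨homogeneousComponent d (p : R), hS _ p.2 d⟩ : S) :=
      Subtype.ext (by rw [AddSubmonoidClass.coe_finsetSum]; exact (sum_homogeneousComponent (p : R)).symm)
    rw [e]
    exact Subalgebra.sum_mem _ fun d _ => key d _ (homogeneousComponent_isHomogeneous d _)
  · funext a
    by_contra hca
    let J := Ideal.span (f '' {i | i ≠ a})
    have hJ : aug S = Ideal.span {f a} ⊔ J := by
      rw [← Ideal.span_union, ← Set.image_singleton, ← Set.image_union,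
        show ({a} : Set (Fin F.card)) ∪ {i | i ≠ a} = Set.univ from Set.eq_univ_of_forall fun i => Classical.em _,
        Set.image_univ, hrange]
      exact hFs.symm
    have h1 : ∀ p ∈ aug S ^ 2, ∀ d, d ≤ dg a → (⟨homogeneousComponent d ((p : S) : R), hS _ p.2 d⟩ : S) ∈ J := by
      intro p hp
      rw [pow_two] at hp
      refine Submodule.mul_induction_on hp (fun x hx y hy => ?_) (fun x y hx hy => ?_)
      · intro d hd
        obtain ⟨b, hb⟩ := (Submodule.mem_span_range_iff_exists_fun S).1
          (show y ∈ Submodule.span S (Set.range f) by rw [hrange]; exact hFs.ge hy)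
        have : (⟨homogeneousComponent d ((x * y : S) : R), hS _ (x * y).2 d⟩ : S) =
            ∑ i, if dg i ≤ d then (⟨homogeneousComponent (d - dg i) ((x * b i : S) : R), hS _ (x * b i).2 _⟩ : S) * f i
              else 0 := by
          refine Subtype.ext ?_
          rw [AddSubmonoidClass.coe_finsetSum]
          change homogeneousComponent d ((x * y : S) : R) = _
          rw [← hb, Finset.mul_sum, AddSubmonoidClass.coe_finsetSum, map_sum]
          refine Finset.sum_congr rfl fun i _ => ?_
          rw [smul_eq_mul, ← mul_assoc, MulMemClass.coe_mul, comp_mul' (hdgh i)]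
          split_ifs <;> rfl
        rw [this]
        refine Ideal.sum_mem _ fun i _ => ?_
        split_ifs with h
        · by_cases hia : i = a
          · subst hia
            convert! zero_mem J
            refine Subtype.ext ?_
            change homogeneousComponent (d - dg i) ((x * b i : S) : R) * (f i : R) = 0
            rw [show d - dg i = 0 by omega, homogeneousComponent_zero]
            have hxb : constantCoeff ((x * b i : S) : R) = 0 := (mem_aug S).1 (Ideal.mul_mem_right _ _ hx)
            rw [constantCoeff_eq] at hxb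
            rw [hxb, map_zero, zero_mul]
          · exact Ideal.mul_mem_left _ _ (Ideal.subset_span ⟨i, hia, rfl⟩)
        · exact zero_mem _
      · intro d hd
        convert! add_mem (hx d hd) (hy d hd) using 1
        exact Subtype.ext (by simp)
    have h2 := h1 _ hc (dg a) le_rfl
    have h3 : c a • f a ∈ J := by
      have e : (⟨homogeneousComponent (dg a) ((∑ i, c i • f i : S) : R), hS _ (∑ i, c i • f i : S).2 _⟩ : S) =
          c a • f a + ∑ i ∈ Finset.univ.erase a, (if dg a = dg i then c i • f i else 0) := by
        refine Subtype.ext ?_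
        change homogeneousComponent (dg a) ((∑ i, c i • f i : S) : R) = _
        rw [AddMemClass.coe_add, AddSubmonoidClass.coe_finsetSum, AddSubmonoidClass.coe_finsetSum, map_sum, ← Finset.add_sum_erase _ _ (Finset.mem_univ a)]
        congr 1
        · rw [Subalgebra.coe_smul, map_smul, homogeneousComponent_of_mem (hdgh a), if_pos rfl]
        · refine Finset.sum_congr rfl fun i _ => ?_
          rw [Subalgebra.coe_smul, map_smul, homogeneousComponent_of_mem (hdgh i)]
          split_ifs <;> simp [f]
      rw [e] at h2
      refine (Ideal.add_mem_iff_left _ (Ideal.sum_mem _ fun i hi => ?_)).1 h2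
      split_ifs
      · exact Submodule.smul_of_tower_mem _ _ (Ideal.subset_span ⟨i, Finset.ne_of_mem_erase hi, rfl⟩)
      · exact zero_mem _
    have h4 : f a ∈ J := by
      have := Submodule.smul_of_tower_mem J (c a)⁻¹ h3
      rwa [smul_smul, inv_mul_cancel₀ hca, one_smul] at this
    have h5 : aug S = J := by
      rw [hJ]
      exact sup_eq_right.2 ((Ideal.span_singleton_le_iff_mem J).2 h4)
    have hlt : ((Finset.univ.erase a).image f).card < Nat.find hex := by
      refine lt_of_le_of_lt Finset.card_image_le ?_
      rw [Finset.card_erase_of_mem (Finset.mem_univ a), Finset.card_univ, Fintype.card_fin, ← hFc]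
      exact Nat.sub_one_lt_of_lt a.2
    refine Nat.find_min hex hlt ⟨_, rfl, ?_, ?_⟩
    · intro x hx
      obtain ⟨i, -, rfl⟩ := Finset.mem_image.1 hx
      exact ⟨dg i, hdg i, hdgh i⟩
    · rw [h5, Finset.coe_image]
      exact congrArg (fun T => Ideal.span (f '' T)) (by ext i; simp)

/-- A graded subalgebra with the polynomial ring free over it is polynomial. -/
theorem exists_algEquiv [Module.Free S R] : ∃ r : ℕ, Nonempty (S ≃ₐ[k] MvPolynomial (Fin r) k) := by
  classical
  haveI : Module.FaithfullyFlat S R := inferInstance
  haveI : IsNoetherianRing S := Lib.Henselian.NoetherianCriterion.isNoetherianRing_of_faithfullyFlat (S := R) S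
  obtain ⟨r, f, dg, hdg, htop, hind⟩ := exists_gens S hS
  haveI := aug_isMaximal S
  haveI := isRegularLocalRing_aug S
  let Sm := Localization.AtPrime (aug S)
  let φ : MvPolynomial (Fin r) k →ₐ[k] S := MvPolynomial.aeval f
  have hφ : Function.Surjective φ := by
    rw [← AlgHom.range_eq_top, ← Algebra.adjoin_range_eq_range_aeval, htop]
  refine ⟨r, ⟨(AlgEquiv.ofBijective φ ⟨?_, hφ⟩).symm⟩⟩
  by_contra hninj
  obtain ⟨x, hx, hx0⟩ : ∃ x, φ x = 0 ∧ x ≠ 0 := by
    by_contra! h
    exact hninj ((injective_iff_map_eq_zero φ).2 h)
  have h1 : ringKrullDim S + 1 ≤ (r : WithBot ℕ∞) := by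
    have := ringKrullDim_succ_le_of_surjective φ.toRingHom hφ (mem_nonZeroDivisors_of_ne_zero hx0) hx
    rwa [MvPolynomial.ringKrullDim_of_isNoetherianRing, ringKrullDim_eq_zero_of_field, zero_add,
      Nat.card_eq_fintype_card, Fintype.card_fin] at this
  have h2 : ringKrullDim Sm ≤ ringKrullDim S := by
    rw [IsLocalization.AtPrime.ringKrullDim_eq_height (aug S) Sm]
    exact Ideal.height_le_ringKrullDim_of_isPrime
  let g : ℕ := (maximalIdeal Sm).spanFinrank
  have h3 : r ≤ g := by
    have hgs : ∃ w : Fin g → S, (∀ i, w i ∈ aug S) ∧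
        maximalIdeal Sm = Ideal.span (Set.range fun i => algebraMap S Sm (w i)) := by
      have hfg : (maximalIdeal Sm).FG := IsNoetherian.noetherian _
      obtain ⟨T, hTc, hTs⟩ : ∃ T : Finset Sm, T.card = g ∧ Ideal.span (T : Set Sm) = maximalIdeal Sm := by
        haveI : Module.Finite Sm (maximalIdeal Sm) := Module.Finite.iff_fg.2 hfg
        have h := Submodule.FG.generators_ncard hfg
        exact ⟨(Submodule.FG.finite_generators hfg).toFinset,
          by rw [← Set.ncard_eq_toFinset_card _ (Submodule.FG.finite_generators hfg)]; exact h,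
          by rw [Set.Finite.coe_toFinset]; exact Submodule.span_generators _⟩
      choose num den hnd using fun t : T => IsLocalization.exists_mk'_eq (aug S).primeCompl (t : Sm)
      let e : Fin g ≃ T := (T.equivFinOfCardEq hTc).symm
      have hmem : ∀ t : T, num t ∈ aug S := by
        intro t
        have := hTs.le (Ideal.subset_span t.2)
        rw [← hnd t, IsLocalization.AtPrime.mk'_mem_maximal_iff Sm (aug S)] at this
        exact this
      refine ⟨fun i => num (e i), fun i => hmem _, le_antisymm ?_ ?_⟩
      · rw [← hTs, Ideal.span_le]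
        intro t ht
        have := hnd ⟨t, ht⟩
        rw [IsLocalization.mk'_eq_mul_mk'_one] at this
        rw [SetLike.mem_coe, show t = _ from this.symm]
        exact Ideal.mul_mem_right _ _ (Ideal.subset_span ⟨e.symm ⟨t, ht⟩, by simp⟩)
      · rw [Ideal.span_le]
        rintro _ ⟨i, rfl⟩
        exact (IsLocalization.AtPrime.to_map_mem_maximal_iff Sm (aug S) _).2 (hmem _)
    obtain ⟨w, hw, hwm⟩ := hgs
    let π : S →ₗ[k] S ⧸ ((aug S ^ 2).restrictScalars k) := Submodule.mkQ _
    have hli : LinearIndependent k fun i => π (f i) := by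
      rw [Fintype.linearIndependent_iff]
      intro c hc
      simp only [← map_smul, ← map_sum] at hc
      exact congrFun (hind c ((Submodule.Quotient.mk_eq_zero _).1 hc))
    have hspan : Set.range (fun i => π (f i)) ⊆ Submodule.span k (Set.range fun i => π (w i)) := by
      rintro _ ⟨a, rfl⟩
      change π (f a) ∈ _
      have hfa : f a ∈ aug S := (mem_aug S).2 ((hdg a).2.coeff_eq_zero (by have := (hdg a).1; simp; omega))
      have hloc : algebraMap S Sm (f a) ∈ (Ideal.span (Set.range w)).map (algebraMap S Sm) := by
        rw [Ideal.map_span, ← Set.range_comp]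
        exact hwm ▸ (IsLocalization.AtPrime.to_map_mem_maximal_iff Sm (aug S) _).2 hfa
      obtain ⟨⟨b, s⟩, hbs⟩ := (IsLocalization.mem_map_algebraMap_iff (aug S).primeCompl Sm).1 hloc
      rw [← map_mul] at hbs
      obtain ⟨u, hu⟩ := (IsLocalization.eq_iff_exists (aug S).primeCompl Sm).1 hbs
      obtain ⟨b', hb'⟩ : ∃ t : S, t = (u : S) * (s : S) := ⟨_, rfl⟩
      have hmem : b' * f a ∈ Ideal.span (Set.range w) := by
        rw [show b' * f a = (u : S) * (f a * (s : S)) by rw [hb']; ring, hu]
        exact Ideal.mul_mem_left _ _ b.2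
      have hb'n : constantCoeff (b' : R) ≠ 0 := fun h =>
        ((aug S).primeCompl.mul_mem u.2 s.2) (hb' ▸ (mem_aug S).2 h)
      obtain ⟨t, ht⟩ := (Submodule.mem_span_range_iff_exists_fun S).1 hmem
      have hmod : ∀ (p : S) (q : S), q ∈ aug S → π (p * q) = constantCoeff (p : R) • π q := by
        intro p q hq
        rw [← map_smul]
        refine (Submodule.Quotient.eq _).2 ?_
        rw [Algebra.smul_def, ← sub_mul, Submodule.restrictScalars_mem, pow_two]
        refine Ideal.mul_mem_mul ((mem_aug S).2 ?_) hq
        change constantCoeff ((p : R) - algebraMap k R _) = 0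
        rw [map_sub, MvPolynomial.algebraMap_eq, constantCoeff_C, sub_self]
      have e := congrArg π ht
      simp only [map_sum, smul_eq_mul, fun i => hmod (t i) (w i) (hw i), hmod b' (f a) hfa] at e
      rw [SetLike.mem_coe, ← inv_smul_smul₀ hb'n (π (f a)), ← e]
      exact Submodule.smul_mem _ _ (Submodule.sum_mem _ fun i _ =>
        Submodule.smul_mem _ _ (Submodule.subset_span ⟨i, rfl⟩))
    have := linearIndependent_le_span' _ hli (Set.range fun i => π (w i)) hspan
    rw [Cardinal.mk_fin] at this
    exact (Nat.cast_le.1 this).trans ((Fintype.card_range_le _).trans_eq (Fintype.card_fin g))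
  have h4 : (r : WithBot ℕ∞) ≤ ringKrullDim S := by
    refine le_trans ?_ h2
    rw [← (inferInstance : IsRegularLocalRing Sm).spanFinrank_maximalIdeal]
    exact_mod_cast h3
  have h5 := (add_le_add h4 le_rfl).trans h1
  have h6 : ((r + 1 : ℕ) : WithBot ℕ∞) ≤ (r : ℕ) := by exact_mod_cast h5
  exact absurd (by exact_mod_cast h6 : r + 1 ≤ r) (by omega)

end

end Groth.Agent.H66.CST
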