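import Groth.Agent.H66.CST.Lin
import Groth.Agent.H66.CST.Poly
import Groth.Agent.H20.SmoothRegular
import Mathlib.RingTheory.AlgebraicIndependent.TranscendenceBasis
import Mathlib.RingTheory.Ideal.GoingUp
import Mathlib.RingTheory.Nakayama

/-!
The quotient by a finite group scheme generated by pseudo-reflections at a fixed point is regular there.
-/

set_option autoImplicit false
set_option linter.unusedSectionVars false
universe u

open TensorProduct MvPolynomial IsLocalRing
open Groth.Agent.Lib.Comod.Basic

namespace Groth.Agent.H66.CST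

noncomputable section

variable {k : Type u} [Field k] {A : Type u} [CommRing A] [HopfAlgebra k A]
variable {R : Type u} [CommRing R] [Algebra k R]

/-- The cotangent space is spanned by generators of the maximal ideal of the local ring. -/
theorem finrank_cotSpace_le [Algebra.FiniteType k R] (x : R →ₐ[k] k) [(RingHom.ker x).IsPrime] :
    Module.finrank k ↥(GLin.cotSpace k R x) ≤
      (maximalIdeal (Localization.AtPrime (RingHom.ker x))).spanFinrank := by
  classical
  let M := RingHom.ker x
  let L := Localization.AtPrime M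
  haveI : IsNoetherianRing R := Algebra.FiniteType.isNoetherianRing k R
  haveI : IsNoetherianRing L := IsLocalization.isNoetherianRing M.primeCompl _ inferInstance
  have hfg : (maximalIdeal L).FG := IsNoetherian.noetherian _
  obtain ⟨T, hTc, hTs⟩ : ∃ T : Finset L, T.card = (maximalIdeal L).spanFinrank ∧
      Ideal.span (T : Set L) = maximalIdeal L := by
    haveI : Module.Finite L (maximalIdeal L) := Module.Finite.iff_fg.2 hfg
    have h := Submodule.FG.generators_ncard hfg
    exact ⟨(Submodule.FG.finite_generators hfg).toFinset,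
      by rw [← Set.ncard_eq_toFinset_card _ (Submodule.FG.finite_generators hfg)]; exact h,
      by rw [Set.Finite.coe_toFinset]; exact Submodule.span_generators _⟩
  choose num den hnd using fun t : T => IsLocalization.exists_mk'_eq M.primeCompl (t : L)
  let q := Ideal.Quotient.mkₐ k (M ^ 2)
  let w : T → R ⧸ M ^ 2 := fun t => q (num t)
  have hnum : ∀ t : T, num t ∈ M := by
    intro t
    have := hTs.le (Ideal.subset_span t.2)
    rw [← hnd t, IsLocalization.AtPrime.mk'_mem_maximal_iff L M] at this
    exact this
  have hmod : ∀ (p f : R), f ∈ M → q (p * f) = x p • q f := by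
    intro p f hf
    rw [← map_smul]
    refine Ideal.Quotient.eq.2 ?_
    rw [Algebra.smul_def, ← sub_mul, pow_two]
    refine Ideal.mul_mem_mul ?_ hf
    rw [RingHom.mem_ker, map_sub, AlgHom.commutes]
    simp
  have hle : GLin.cotSpace k R x ≤ Submodule.span k (Set.range w) := by
    rintro _ ⟨f, hf, rfl⟩
    have hloc : algebraMap R L f ∈ (Ideal.span (Set.range num)).map (algebraMap R L) := by
      have hmem : algebraMap R L f ∈ maximalIdeal L :=
        (IsLocalization.AtPrime.to_map_mem_maximal_iff L M _).2 hf
      rw [← hTs] at hmem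
      refine (Ideal.span_le.2 ?_) hmem
      intro t ht
      rw [SetLike.mem_coe, show t = IsLocalization.mk' L (num ⟨t, ht⟩) (den ⟨t, ht⟩) from (hnd ⟨t, ht⟩).symm,
        IsLocalization.mk'_eq_mul_mk'_one]
      exact Ideal.mul_mem_right _ _ (Ideal.mem_map_of_mem _ (Ideal.subset_span ⟨_, rfl⟩))
    obtain ⟨⟨b, s⟩, hbs⟩ := (IsLocalization.mem_map_algebraMap_iff M.primeCompl L).1 hloc
    rw [← map_mul] at hbs
    obtain ⟨u, hu⟩ := (IsLocalization.eq_iff_exists M.primeCompl L).1 hbs
    have hne : x ((u : R) * (s : R)) ≠ 0 := fun h => (M.primeCompl.mul_mem u.2 s.2) h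
    have hmem : ((u : R) * (s : R)) * f ∈ Ideal.span (Set.range num) := by
      rw [mul_assoc, mul_comm (s : R) f, hu]
      exact Ideal.mul_mem_left _ _ b.2
    obtain ⟨t, ht⟩ := (Submodule.mem_span_range_iff_exists_fun R).1 hmem
    have h2 : x ((u : R) * (s : R)) • q f ∈ Submodule.span k (Set.range w) := by
      rw [← hmod _ _ hf, ← ht, map_sum]
      refine Submodule.sum_mem _ fun i _ => ?_
      rw [smul_eq_mul, hmod _ _ (hnum i)]
      exact Submodule.smul_mem _ _ (Submodule.subset_span ⟨i, rfl⟩)
    exact (Submodule.smul_mem_iff _ hne).1 h2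
  haveI : Module.Finite k ↥(Submodule.span k (Set.range w)) :=
    FiniteDimensional.span_of_finite k (Set.finite_range w)
  refine (Submodule.finrank_mono hle).trans ((finrank_range_le_card (R := k) w).trans ?_)
  rw [Fintype.card_coe, hTc]

variable [HopfRep.Comod k A R] [GLin.IsCoactAlg k A R]

theorem height_le_height_comap [Module.Finite k A] (M : Ideal R) [M.IsPrime] :
    M.height ≤ (M.comap (GLin.invariants k A R).val.toRingHom).height := by
  haveI := isIntegral_invariants (k := k) (A := A) (R := R)
  let S := GLin.invariants k A R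
  let c : PrimeSpectrum R → PrimeSpectrum S := fun p =>
    ⟨p.asIdeal.comap (algebraMap S R), Ideal.comap_isPrime _ _⟩
  have hc : StrictMono c := by
    intro p q hpq
    haveI := p.isPrime
    obtain ⟨hle, y, hyq, hyp⟩ := SetLike.lt_iff_le_and_exists.1 (show p.asIdeal < q.asIdeal from hpq)
    exact Ideal.comap_lt_comap_of_integral_mem_sdiff hle ⟨hyq, hyp⟩ (Algebra.IsIntegral.isIntegral y)
  have h := Order.height_le_height_apply_of_strictMono c hc ⟨M, inferInstance⟩
  rw [← PrimeSpectrum.height_eq_orderHeight, ← PrimeSpectrum.height_eq_orderHeight] at h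
  exact h

/-- Chevalley–Shephard–Todd at a fixed point. -/
theorem isRegularLocalRing_of_genAt [Module.Finite k A] [Algebra.FiniteType k R] [Algebra.Smooth k R]
    (hG : HopfRep.IsLinearlyReductive k A)
    (hsub : ∀ (I : Ideal A) [I.IsHopfIdeal k], HopfRep.IsLinearlyReductive k (A ⧸ I))
    (x : R →ₐ[k] k) (hx : GLin.IsFixedPt k A x) (hgen : GLin.IsGenByPseudoReflAt k A R x)
    [(RingHom.ker (x.comp (GLin.invariants k A R).val)).IsPrime] :
    IsRegularLocalRing (Localization.AtPrime (RingHom.ker (x.comp (GLin.invariants k A R).val))) := by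
  classical
  haveI : (RingHom.ker x).IsPrime := RingHom.ker_isPrime _
  haveI : IsNoetherianRing R := Algebra.FiniteType.isNoetherianRing k R
  let S := GLin.invariants k A R
  let M := RingHom.ker x
  let nn := RingHom.ker (x.comp S.val)
  haveI : IsNoetherianRing S := Lib.Comod.Invariants.isNoetherianRing_invariants hG
  haveI : IsNoetherianRing (Localization.AtPrime nn) := IsLocalization.isNoetherianRing nn.primeCompl _ inferInstance
  obtain ⟨η, hη1, hη⟩ := H60.Haar.exists_haar (A := A) hG
  obtain ⟨V, hV, hVM, hV2, hVs⟩ := exists_lift x hx hG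
  haveI := finite_cotSpace x
  haveI : Module.Finite k V := by
    refine Module.Finite.of_injective ((toCot x V).codRestrict (GLin.cotSpace k R x) fun v => ?_) ?_
    · rw [← range_toCot x V hVM hVs]; exact LinearMap.mem_range_self _ v
    · exact fun v v' h => toCot_injective x V hV2 (congrArg Subtype.val h)
  let N := Module.finrank k V
  let b : Module.Basis (ULift.{u} (Fin N)) k V := (Module.finBasis k V).reindex Equiv.ulift.symm
  letI := subComod V hV
  letI := polyComod (A := A) b
  haveI := isCoactAlg_polyComod (A := A) b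
  have hlin := isLinear_polyComod (A := A) b
  have hgen' : GLin.IsGenByPseudoRefl k A (ULift.{u} (Fin N)) := by
    unfold GLin.IsGenByPseudoRefl GLin.genIdeal
    simp only [isPseudoReflAt_iff x hx V hVM hV2 hVs hV b]
    exact hgen
  haveI := free hlin hG hsub hgen'
  let P := MvPolynomial (ULift.{u} (Fin N)) k
  let SP := GLin.invariants k A P
  obtain ⟨r, ⟨e⟩⟩ := exists_algEquiv SP fun p hp d => comp_mem_invariants hlin hp d
  -- the number of generators
  have hr : r ≤ N := by
    have hind : AlgebraicIndependent k fun i : ULift.{u} (Fin r) => ((e.symm (X i.down) : SP) : P) := by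
      have h := (algebraicIndependent_X (Fin r) k).map' (f := SP.val.comp e.symm.toAlgHom)
        (fun a a' h => e.symm.injective (Subtype.ext h))
      exact h.comp _ Equiv.ulift.injective
    have h := hind.cardinalMk_le_trdeg
    rw [MvPolynomial.trdeg_of_isDomain] at h
    simpa using h
  -- the evaluation map
  let φ : P →ₐ[k] R := aeval fun j => (b j : R)
  have hφlin : φ.toLinearMap ∘ₗ polyLin b = V.subtype := b.ext fun j => by
    rw [LinearMap.comp_apply, AlgHom.toLinearMap_apply, polyLin_basis]
    exact aeval_X _ _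
  have hφco : ∀ p : P, HopfRep.Comod.coact (k := k) (A := A) (φ p) =
      Algebra.TensorProduct.map φ (AlgHom.id k A) (polyCoact (A := A) b p) := by
    suffices h : (GLin.coactAlgHom k A R).comp φ = (Algebra.TensorProduct.map φ (AlgHom.id k A)).comp (polyCoact (A := A) b) from
      fun p => AlgHom.congr_fun h p
    refine MvPolynomial.algHom_ext fun j => ?_
    have h1 : HopfRep.Comod.coact (k := k) (A := A) (b j : R) = V.subtype.rTensor A (HopfRep.Comod.coact (k := k) (A := A) (b j)) :=
      (LinearMap.congr_fun (subCoact_spec V hV) (b j)).symm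
    simp only [AlgHom.comp_apply, GLin.coactAlgHom_apply, φ, aeval_X, polyCoact]
    rw [h1, ← hφlin, LinearMap.rTensor_comp_apply]
    induction (polyLin b).rTensor A (HopfRep.Comod.coact (k := k) (A := A) (b j)) using TensorProduct.induction_on with
    | zero => simp
    | add y z hy hz => simp only [map_add, hy, hz]
    | tmul p a => rfl
  have hφdact : ∀ (ψ : A →ₗ[k] k) (p : P), φ (dact P ψ p) = dact R ψ (φ p) := by
    intro ψ p
    rw [dact_apply, dact_apply, hφco]
    change φ (contract P ψ (polyCoact (A := A) b p)) = _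
    induction polyCoact (A := A) b p using TensorProduct.induction_on with
    | zero => simp
    | add y z hy hz => simp only [map_add, hy, hz]
    | tmul p a => simp
  have hmem : ∀ p ∈ SP, φ p ∈ S := by
    intro p hp
    change HopfRep.Comod.coact (k := k) (A := A) (φ p) = φ p ⊗ₜ[k] (1 : A)
    rw [hφco]
    change Algebra.TensorProduct.map φ (AlgHom.id k A) (HopfRep.Comod.coact (k := k) (A := A) p) = _
    rw [(GLin.mem_invariants_iff k A P p).1 hp]
    rfl
  let ψ : MvPolynomial (Fin r) k →ₐ[k] S :=
    ((φ.comp SP.val).codRestrict S fun p => hmem p p.2).comp e.symm.toAlgHom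
  let h : Fin r → S := fun i => ψ (X i) - algebraMap k S (x (ψ (X i)))
  have hh : ∀ Q, ψ Q - algebraMap k S (x (ψ Q : R)) ∈ Ideal.span (Set.range h) := by
    intro Q
    induction Q using MvPolynomial.induction_on with
    | C a => simp [← MvPolynomial.algebraMap_eq]
    | add p q hp hq =>
      convert add_mem hp hq using 1
      simp only [map_add, Subalgebra.coe_add]
      abel
    | mul_X p i hp =>
      have e2 : ψ (p * X i) - algebraMap k S (x (ψ (p * X i) : R)) =
          (ψ p - algebraMap k S (x (ψ p : R))) * ψ (X i) + algebraMap k S (x (ψ p : R)) * h i := by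
        simp only [h, map_mul, Subalgebra.coe_mul]
        ring
      rw [e2]
      exact add_mem (Ideal.mul_mem_right _ _ hp) (Ideal.mul_mem_left _ _ (Ideal.subset_span ⟨i, rfl⟩))
  -- approximate surjectivity
  have hpow : ∀ j, ∀ m ∈ M ^ j, ∃ p, m - φ p ∈ M ^ (j + 1) := by
    intro j
    induction j with
    | zero =>
      intro m _
      refine ⟨C (x m), ?_⟩
      rw [zero_add, pow_one, RingHom.mem_ker, map_sub, ← MvPolynomial.algebraMap_eq, AlgHom.commutes,
        AlgHom.commutes]
      exact sub_self _
    | succ j ih =>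
      intro m hm
      rw [pow_succ] at hm
      induction hm using Submodule.mul_induction_on' with
      | mem_mul_mem a ha c hc =>
        obtain ⟨p, hp⟩ := ih a ha
        obtain ⟨v, hv, hcv⟩ := hVs c hc
        refine ⟨p * polyLin b ⟨v, hv⟩, ?_⟩
        rw [map_mul, show φ (polyLin b ⟨v, hv⟩) = v from LinearMap.congr_fun hφlin ⟨v, hv⟩,
          show a * c - φ p * v = a * (c - v) + (a - φ p) * v by ring]
        refine add_mem ?_ ?_
        · rw [show j + 1 + 1 = j + 2 from rfl, pow_add]
          exact Ideal.mul_mem_mul ha hcv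
        · rw [pow_succ _ (j + 1)]
          exact Ideal.mul_mem_mul hp (hVM hv)
      | add a _ c _ ha hc =>
        obtain ⟨p, hp⟩ := ha
        obtain ⟨p', hp'⟩ := hc
        exact ⟨p + p', by rw [map_add, add_sub_add_comm]; exact add_mem hp hp'⟩
  have happ : ∀ j, ∀ f : R, ∃ p, f - φ p ∈ M ^ j := by
    intro j
    induction j with
    | zero => exact fun f => ⟨0, by simp⟩
    | succ j ih =>
      intro f
      obtain ⟨p, hp⟩ := ih f
      obtain ⟨p', hp'⟩ := hpow j _ hp
      exact ⟨p + p', by rwa [map_add, ← sub_sub]⟩
  obtain ⟨N0, hN0⟩ := exists_pow_le hG x (stable_ker x hx)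
  have hsplit : nn ≤ Ideal.span (Set.range h) ⊔ nn ^ 2 := by
    intro s hs
    obtain ⟨p, hp⟩ := happ (N0 * 2) (s : R)
    have h1 : (s : R) - φ p ∈ (nn ^ 2).map S.val.toRingHom := by
      rw [Ideal.map_pow]
      rw [pow_mul] at hp
      exact Ideal.pow_right_mono hN0 2 hp
    have h2 := stable_iff.1 (stable_map (nn ^ 2)) η _ h1
    have hs' : dact R η (s : R) = (s : R) := by
      rw [dact_apply, (GLin.mem_invariants_iff k A R _).1 s.2, contract_tmul, hη1, one_smul]
    have hp' : dact P η p ∈ SP := hη P p
    let t : S := ψ (e ⟨dact P η p, hp'⟩)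
    have ht : (t : R) = dact R η (φ p) := by
      change φ ((e.symm (e ⟨dact P η p, hp'⟩) : SP) : P) = _
      rw [AlgEquiv.symm_apply_apply, hφdact]
    rw [map_sub, hs', ← ht] at h2
    have h3 : s - t ∈ nn ^ 2 := by
      rw [← Lib.Comod.Invariants.comap_map_eq hG (nn ^ 2)]
      exact h2
    have h4 : x (t : R) = 0 := by
      have h5 : s - t ∈ nn := Ideal.pow_le_self two_ne_zero h3
      have h6 := sub_mem hs h5
      rwa [sub_sub_cancel, RingHom.mem_ker] at h6
    have h7 := hh (e ⟨dact P η p, hp'⟩)
    change t - algebraMap k S (x (t : R)) ∈ _ at h7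
    rw [h4, map_zero, sub_zero] at h7
    rw [show s = t + (s - t) by ring]
    exact add_mem (Ideal.mem_sup_left h7) (Ideal.mem_sup_right h3)
  let L := Localization.AtPrime nn
  let J : Ideal L := (Ideal.span (Set.range h)).map (algebraMap S L)
  have hmax : maximalIdeal L = J := by
    have hm : nn.map (algebraMap S L) = maximalIdeal L := IsLocalization.AtPrime.map_eq_maximalIdeal nn L
    refine le_antisymm (Submodule.le_of_le_smul_of_le_jacobson_bot (IsNoetherian.noetherian _)
      (IsLocalRing.maximalIdeal_le_jacobson _) ?_) ?_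
    · rw [smul_eq_mul, ← pow_two]
      conv_lhs => rw [← hm]
      rw [← hm, ← Ideal.map_pow, ← Ideal.map_sup]
      exact Ideal.map_mono hsplit
    · refine Ideal.map_le_iff_le_comap.2 (Ideal.span_le.2 ?_)
      rintro _ ⟨i, rfl⟩
      refine (IsLocalization.AtPrime.to_map_mem_maximal_iff L nn _).2 ?_
      change x ((ψ (X i) : R) - algebraMap k R (x (ψ (X i) : R))) = 0
      rw [map_sub, AlgHom.commutes]
      exact sub_self _
  have hgr : (maximalIdeal L).spanFinrank ≤ r := by
    rw [hmax]
    change (Submodule.spanFinrank ((Ideal.span (Set.range h)).map (algebraMap S L))) ≤ r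
    rw [Ideal.map_span, ← Set.range_comp]
    refine (Submodule.spanFinrank_span_le_ncard_of_finite (Set.finite_range _)).trans ?_
    rw [← Nat.card_coe_set_eq]
    exact (Finite.card_range_le _).trans (by simp)
  have hN : N ≤ (maximalIdeal (Localization.AtPrime M)).spanFinrank := by
    refine le_trans (le_of_eq ?_) (finrank_cotSpace_le x)
    rw [← range_toCot x V hVM hVs, LinearMap.finrank_range_of_inj (toCot_injective x V hV2)]
  haveI : Algebra.IsSmoothAt k M := inferInstance
  haveI : IsRegularLocalRing (Localization.AtPrime M) := H20.SmoothRegular.isRegularLocalRing k M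
  refine IsRegularLocalRing.of_spanFinrank_maximalIdeal_le L ?_
  calc ((maximalIdeal L).spanFinrank : WithBot ℕ∞)
      ≤ ((maximalIdeal (Localization.AtPrime M)).spanFinrank : WithBot ℕ∞) := by
        exact_mod_cast hgr.trans (hr.trans hN)
    _ = ringKrullDim (Localization.AtPrime M) := IsRegularLocalRing.spanFinrank_maximalIdeal
    _ = (M.height : WithBot ℕ∞) := IsLocalization.AtPrime.ringKrullDim_eq_height M _
    _ ≤ (nn.height : WithBot ℕ∞) := WithBot.coe_le_coe.2 (height_le_height_comap (k := k) (A := A) M)
    _ = ringKrullDim L := (IsLocalization.AtPrime.ringKrullDim_eq_height nn _).symm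

end

end Groth.Agent.H66.CST
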